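import Mathlib.LinearAlgebra.Matrix.Charpoly.Basic
import Mathlib.LinearAlgebra.Matrix.Block

/-!
# Determinant and characteristic polynomial of `Matrix.blockDiagonal'`
-/

set_option autoImplicit false

noncomputable section

namespace Groth.Agent.IsocLib

variable {o : Type*} [Fintype o] [DecidableEq o] {m : o → Type*} [∀ i, Fintype (m i)]
  [∀ i, DecidableEq (m i)] {R : Type*} [CommRing R]

/-- The fibre of `Sigma.fst`. -/
def sigmaFiber (a : o) : {x : (Σ i, m i) // x.1 = a} ≃ m a where
  toFun x := x.2 ▸ x.1.2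
  invFun y := ⟨⟨a, y⟩, rfl⟩
  left_inv := by rintro ⟨⟨i, y⟩, rfl⟩; rfl
  right_inv _ := rfl

theorem toSquareBlock_blockDiagonal' (d : ∀ i, Matrix (m i) (m i) R) (a : o) :
    (Matrix.blockDiagonal' d).toSquareBlock Sigma.fst a =
      (d a).submatrix (sigmaFiber a) (sigmaFiber a) := by
  ext ⟨⟨i, x⟩, hi⟩ ⟨⟨j, y⟩, hj⟩
  dsimp only at hi hj
  subst hi; subst hj
  simp [Matrix.toSquareBlock_def, sigmaFiber]

theorem det_blockDiagonal' (d : ∀ i, Matrix (m i) (m i) R) :
    (Matrix.blockDiagonal' d).det = ∏ i, (d i).det := by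
  classical
  letI : LinearOrder o := LinearOrder.lift' (Fintype.equivFin o) (Fintype.equivFin o).injective
  rw [(Matrix.blockTriangular_blockDiagonal' d).det_fintype]
  exact Finset.prod_congr rfl fun a _ => by
    rw [toSquareBlock_blockDiagonal', Matrix.det_submatrix_equiv_self]

theorem charpoly_blockDiagonal'_aux {o : Type*} [Fintype o] [LinearOrder o] {m : o → Type*}
    [∀ i, Fintype (m i)] [∀ i, DecidableEq (m i)] (d : ∀ i, Matrix (m i) (m i) R) :
    (Matrix.blockDiagonal' d).charpoly = ∏ i, (d i).charpoly := by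
  rw [(Matrix.blockTriangular_blockDiagonal' d).charpoly]
  refine (Finset.prod_subset (Finset.subset_univ _) fun a _ ha => ?_).trans
    (Finset.prod_congr rfl fun a _ => ?_)
  · haveI : IsEmpty {x : (Σ i, m i) // x.1 = a} :=
      ⟨fun x => ha (Finset.mem_image.mpr ⟨x.1, Finset.mem_univ _, x.2⟩)⟩
    rw [Matrix.charpoly, Matrix.det_isEmpty]
  · rw [toSquareBlock_blockDiagonal', ← Matrix.charpoly_reindex (sigmaFiber a)]
    congr 1

theorem charpoly_blockDiagonal' (d : ∀ i, Matrix (m i) (m i) R) :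
    (Matrix.blockDiagonal' d).charpoly = ∏ i, (d i).charpoly := by
  classical
  letI : LinearOrder o := LinearOrder.lift' (Fintype.equivFin o) (Fintype.equivFin o).injective
  convert! charpoly_blockDiagonal'_aux d

end Groth.Agent.IsocLib

end
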