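import Groth.Prelude.Def_Isoc
import Mathlib.RingTheory.WittVector.Complete

/-!
# Basic API for lattices in `σ^a`-F-isocrystals

`Good τ`: the twist `τ` of `L = Frac W(k)` is induced by an automorphism of `W(k)`.
`pi p k r` is the scalar `p^r ∈ L`; lemmas on `Isoc.IsOrdP`, `Isoc.pPow`, `Isoc.latImg`.
-/

set_option autoImplicit false
set_option linter.unusedSectionVars false

noncomputable section

open scoped Pointwise
open Isoc

universe u v

namespace Groth.Agent.IsocLib

section Scalar

variable {p : ℕ} [Fact p.Prime] {k : Type u} [Field k] [CharP k p]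

variable (p k) in
/-- `p^r` as an element of the fraction field of `W(k)`. -/
abbrev pi (r : ℤ) : FractionRing (WittVector p k) := (p : FractionRing (WittVector p k)) ^ r

theorem p_ne_zero : (p : FractionRing (WittVector p k)) ≠ 0 := by
  have h : (p : FractionRing (WittVector p k)) =
      algebraMap (WittVector p k) (FractionRing (WittVector p k)) (p : WittVector p k) := by simp
  rw [h]
  exact fun h0 => WittVector.p_nonzero p k
    (IsFractionRing.injective (WittVector p k) (FractionRing (WittVector p k)) (by rw [h0, map_zero]))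

theorem pi_ne_zero (r : ℤ) : pi p k r ≠ 0 := zpow_ne_zero _ p_ne_zero

theorem pi_add (r r' : ℤ) : pi p k (r + r') = pi p k r * pi p k r' := zpow_add₀ p_ne_zero r r'

theorem pi_natCast (n : ℕ) :
    pi p k n = algebraMap (WittVector p k) (FractionRing (WittVector p k))
      ((p : WittVector p k) ^ n) := by
  simp [pi, map_pow]

theorem pi_one : pi p k 1 =
    algebraMap (WittVector p k) (FractionRing (WittVector p k)) (p : WittVector p k) := by
  simp [pi]

theorem map_pi (τ : FractionRing (WittVector p k) →+* FractionRing (WittVector p k)) (r : ℤ) :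
    τ (pi p k r) = pi p k r := by
  simp [pi, map_zpow₀]

/-- The twist is induced by an automorphism of `W(k)`. -/
class Good (τ : FractionRing (WittVector p k) →+* FractionRing (WittVector p k)) : Prop where
  out : ∃ σ : WittVector p k ≃+* WittVector p k, ∀ w : WittVector p k,
    τ (algebraMap (WittVector p k) _ w) = algebraMap (WittVector p k) _ (σ w)

variable {τ : FractionRing (WittVector p k) →+* FractionRing (WittVector p k)} [Good τ]

variable (τ) in
/-- The automorphism of `W(k)` inducing a good twist. -/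
def sig : WittVector p k ≃+* WittVector p k := (Good.out (τ := τ)).choose

theorem tau_algebraMap (w : WittVector p k) :
    τ (algebraMap (WittVector p k) _ w) = algebraMap (WittVector p k) _ (sig τ w) :=
  (Good.out (τ := τ)).choose_spec w

theorem tau_surjective : Function.Surjective τ := by
  intro c
  obtain ⟨a, b, hb, rfl⟩ := IsFractionRing.div_surjective (A := WittVector p k) c
  obtain ⟨a', rfl⟩ := (sig τ).surjective a
  obtain ⟨b', rfl⟩ := (sig τ).surjective b
  exact ⟨algebraMap _ _ a' / algebraMap _ _ b', by rw [map_div₀, tau_algebraMap, tau_algebraMap]⟩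

instance goodFrob [PerfectRing k p] (a : ℤ) : Good (Isoc.frob p k a) :=
  ⟨⟨_, Isoc.frob_algebraMap p k a⟩⟩

instance goodPow (n : ℕ) : Good (τ ^ n) := by
  induction n with
  | zero => exact ⟨⟨RingEquiv.refl _, fun w => by simp⟩⟩
  | succ n ih =>
    obtain ⟨σn, hσn⟩ := ih.out
    refine ⟨⟨σn.trans (sig τ), fun w => ?_⟩⟩
    rw [pow_succ', RingHom.coe_mul, Function.comp_apply, hσn, tau_algebraMap]
    rfl

omit [Good τ] in
theorem isOrdP_ne_zero {c : FractionRing (WittVector p k)} {r : ℤ} (h : IsOrdP c r) : c ≠ 0 := by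
  obtain ⟨u, rfl⟩ := h
  refine mul_ne_zero (pi_ne_zero r) fun h0 => u.ne_zero ?_
  exact IsFractionRing.injective (WittVector p k) (FractionRing (WittVector p k))
    (by rw [h0, map_zero])

omit [Good τ] in
theorem isOrdP_mul {c c' : FractionRing (WittVector p k)} {r r' : ℤ} (h : IsOrdP c r)
    (h' : IsOrdP c' r') : IsOrdP (c * c') (r + r') := by
  obtain ⟨u, rfl⟩ := h
  obtain ⟨u', rfl⟩ := h'
  exact ⟨u * u', by rw [Units.val_mul, map_mul, zpow_add₀ p_ne_zero]; ring⟩

omit [Good τ] in
theorem isOrdP_one : IsOrdP (1 : FractionRing (WittVector p k)) 0 := ⟨1, by simp⟩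

omit [Good τ] in
theorem isOrdP_pi (r : ℤ) : IsOrdP (pi p k r) r := ⟨1, by simp⟩

omit [Good τ] in
theorem isOrdP_unit (u : (WittVector p k)ˣ) :
    IsOrdP (algebraMap (WittVector p k) (FractionRing (WittVector p k)) u) 0 := ⟨u, by simp⟩

omit [Good τ] in
theorem isOrdP_unique {c : FractionRing (WittVector p k)} {r r' : ℤ} (h : IsOrdP c r)
    (h' : IsOrdP c r') : r = r' := by
  suffices H : ∀ {r r' : ℤ}, IsOrdP c r → IsOrdP c r' → r ≤ r' → r = r' by
    rcases le_total r r' with hle | hle
    · exact H h h' hle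
    · exact (H h' h hle).symm
  intro r r' h h' hle
  obtain ⟨u, hu⟩ := h
  obtain ⟨u', hu'⟩ := h'
  obtain ⟨n, rfl⟩ : ∃ n : ℕ, r' = r + n := ⟨(r' - r).toNat, by omega⟩
  rw [hu, zpow_add₀ p_ne_zero, mul_assoc, mul_right_inj' (pi_ne_zero r)] at hu'
  have h2 : ((u : WittVector p k)) = (p : WittVector p k) ^ n * u' := by
    apply IsFractionRing.injective (WittVector p k) (FractionRing (WittVector p k))
    rw [hu', map_mul, ← pi_natCast]
  rcases n with _ | n
  · simp
  · exfalso
    refine (WittVector.irreducible p (k := k)).not_isUnit ?_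
    have : IsUnit ((p : WittVector p k) ^ (n + 1) * u') := h2 ▸ u.isUnit
    exact (isUnit_pow_iff (Nat.succ_ne_zero n)).mp (isUnit_of_mul_isUnit_left this)

theorem isOrdP_tau {c : FractionRing (WittVector p k)} {r : ℤ} (h : IsOrdP c r) :
    IsOrdP (τ c) r := by
  obtain ⟨u, rfl⟩ := h
  exact ⟨Units.map (sig τ).toRingHom.toMonoidHom u, by
    rw [map_mul, map_zpow₀, map_natCast, tau_algebraMap]; rfl⟩

omit [Good τ] in
/-- A scalar of non-negative order is integral. -/
theorem isOrdP_mem_range {c : FractionRing (WittVector p k)} {r : ℤ} (h : IsOrdP c r) (hr : 0 ≤ r) :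
    c ∈ Set.range (algebraMap (WittVector p k) (FractionRing (WittVector p k))) := by
  obtain ⟨u, rfl⟩ := h
  obtain ⟨n, rfl⟩ := Int.eq_ofNat_of_zero_le hr
  exact ⟨(p : WittVector p k) ^ n * u, by rw [map_mul, ← pi_natCast]⟩

variable [PerfectRing k p]

omit [Good τ] in
theorem exists_isOrdP {c : FractionRing (WittVector p k)} (hc : c ≠ 0) : ∃ r, IsOrdP c r := by
  obtain ⟨a, b, hb, rfl⟩ := IsFractionRing.div_surjective (A := WittVector p k) c
  have ha : a ≠ 0 := fun h => hc (by simp [h])
  obtain ⟨m, u, rfl⟩ := WittVector.exists_eq_pow_p_mul' a ha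
  obtain ⟨n, v, rfl⟩ := WittVector.exists_eq_pow_p_mul' b (nonZeroDivisors.ne_zero hb)
  refine ⟨(m : ℤ) - n, u * v⁻¹, ?_⟩
  have hv : algebraMap (WittVector p k) (FractionRing (WittVector p k)) v ≠ 0 := by
    intro h0
    exact v.ne_zero (IsFractionRing.injective _ (FractionRing (WittVector p k)) (by rw [h0, map_zero]))
  rw [map_mul, map_mul, ← pi_natCast, ← pi_natCast, zpow_sub₀ p_ne_zero]
  have : algebraMap (WittVector p k) (FractionRing (WittVector p k)) (↑(u * v⁻¹) : WittVector p k)
      = algebraMap _ _ (u : WittVector p k) / algebraMap _ _ (v : WittVector p k) := by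
    rw [eq_div_iff hv, ← map_mul]
    simp [mul_assoc]
  rw [this, div_mul_div_comm]

omit [Good τ] in
/-- An integral non-zero scalar has non-negative order. -/
theorem isOrdP_nonneg {w : WittVector p k} {r : ℤ}
    (h : IsOrdP (algebraMap (WittVector p k) (FractionRing (WittVector p k)) w) r) : 0 ≤ r := by
  have hw : w ≠ 0 := fun h0 => isOrdP_ne_zero h (by rw [h0, map_zero])
  obtain ⟨m, u, rfl⟩ := WittVector.exists_eq_pow_p_mul' w hw
  have : IsOrdP (algebraMap (WittVector p k) (FractionRing (WittVector p k))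
      ((p : WittVector p k) ^ m * u)) m := ⟨u, by rw [map_mul, ← pi_natCast]⟩
  rw [isOrdP_unique h this]
  exact Int.natCast_nonneg m

omit [Good τ] in
/-- A scalar all of whose divisions by powers of `p` are integral vanishes. -/
theorem eq_zero_of_forall_range {c : FractionRing (WittVector p k)}
    (h : ∀ r : ℕ, pi p k (-(r : ℤ)) * c ∈
      Set.range (algebraMap (WittVector p k) (FractionRing (WittVector p k)))) : c = 0 := by
  by_contra hc
  obtain ⟨e, he⟩ := exists_isOrdP hc
  obtain ⟨w, hw⟩ := h (e.toNat + 1)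
  have h2 := isOrdP_mul (isOrdP_pi (p := p) (k := k) (-((e.toNat + 1 : ℕ) : ℤ))) he
  rw [← hw] at h2
  have := isOrdP_nonneg h2
  omega

end Scalar

section Module

variable {p : ℕ} [Fact p.Prime] {k : Type u} [Field k] [CharP k p]
variable {N : Type v} [AddCommGroup N] [Module (WittVector p k) N]
  [Module (FractionRing (WittVector p k)) N]
  [IsScalarTower (WittVector p k) (FractionRing (WittVector p k)) N]

theorem mem_pPow {r : ℤ} {M : Submodule (WittVector p k) N} {x : N} :
    x ∈ pPow r M ↔ pi p k (-r) • x ∈ M := by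
  rw [pPow, ← SetLike.mem_coe, Submodule.coe_pointwise_smul,
    Set.mem_smul_set_iff_inv_smul_mem₀ (pi_ne_zero r), ← zpow_neg]
  rfl

theorem smul_mem_pPow {r : ℤ} {M : Submodule (WittVector p k) N} {x : N} (hx : x ∈ M) :
    pi p k r • x ∈ pPow r M :=
  Submodule.smul_mem_pointwise_smul _ _ _ hx

theorem pPow_zero (M : Submodule (WittVector p k) N) : pPow 0 M = M := by
  ext x; simp [mem_pPow, pi]

theorem pPow_add (r r' : ℤ) (M : Submodule (WittVector p k) N) :
    pPow r (pPow r' M) = pPow (r + r') M := by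
  ext x; rw [mem_pPow, mem_pPow, mem_pPow, smul_smul, ← pi_add, neg_add, add_comm (-r) (-r')]

theorem pPow_mono (r : ℤ) {M M' : Submodule (WittVector p k) N} (h : M ≤ M') :
    pPow r M ≤ pPow r M' := fun _ hx => mem_pPow.mpr (h (mem_pPow.mp hx))

theorem pPow_anti {r r' : ℤ} (h : r ≤ r') (M : Submodule (WittVector p k) N) :
    pPow r' M ≤ pPow r M := by
  intro x hx
  rw [mem_pPow] at hx ⊢
  obtain ⟨n, rfl⟩ : ∃ n : ℕ, r' = r + n := ⟨(r' - r).toNat, by omega⟩
  have h2 : pi p k (-r) = pi p k (n : ℤ) * pi p k (-(r + n)) := by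
    rw [← pi_add]; congr 1; ring
  rw [h2, mul_smul, pi_natCast, algebraMap_smul]
  exact M.smul_mem _ hx

theorem pPow_le_self {r : ℤ} (h : 0 ≤ r) (M : Submodule (WittVector p k) N) : pPow r M ≤ M :=
  (pPow_anti h M).trans (pPow_zero M).le

theorem pPow_fg (r : ℤ) {M : Submodule (WittVector p k) N} (h : M.FG) : (pPow r M).FG :=
  h.map _

theorem pPow_bot (r : ℤ) : pPow r (⊥ : Submodule (WittVector p k) N) = ⊥ := by
  ext x
  simp [mem_pPow, smul_eq_zero, pi_ne_zero]

theorem pPow_inf (r : ℤ) (M M' : Submodule (WittVector p k) N) :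
    pPow r (M ⊓ M') = pPow r M ⊓ pPow r M' := by
  ext x; simp [mem_pPow]

theorem pPow_sup (r : ℤ) (M M' : Submodule (WittVector p k) N) :
    pPow r (M ⊔ M') = pPow r M ⊔ pPow r M' :=
  Submodule.map_sup _ _ _

theorem pPow_le_iff {r : ℤ} {M M' : Submodule (WittVector p k) N} :
    pPow r M ≤ M' ↔ M ≤ pPow (-r) M' := by
  constructor
  · intro h
    have := pPow_mono (-r) h
    rwa [pPow_add, neg_add_cancel, pPow_zero] at this
  · intro h
    have := pPow_mono r h
    rwa [pPow_add, add_neg_cancel, pPow_zero] at this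

theorem span_pPow (r : ℤ) (M : Submodule (WittVector p k) N) :
    Submodule.span (FractionRing (WittVector p k)) (pPow r M : Set N) =
      Submodule.span (FractionRing (WittVector p k)) (M : Set N) := by
  apply le_antisymm <;> rw [Submodule.span_le] <;> intro x hx
  · have := Submodule.smul_mem _ (pi p k r)
      (Submodule.subset_span (R := FractionRing (WittVector p k)) (mem_pPow.mp hx))
    rwa [smul_smul, ← pi_add, add_neg_cancel, show pi p k 0 = 1 from zpow_zero _, one_smul] at this
  · have := Submodule.smul_mem _ (pi p k (-r))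
      (Submodule.subset_span (R := FractionRing (WittVector p k)) (smul_mem_pPow (r := r) hx))
    rwa [smul_smul, ← pi_add, neg_add_cancel, show pi p k 0 = 1 from zpow_zero _, one_smul] at this

theorem isLattice_pPow (r : ℤ) {M : Submodule (WittVector p k) N}
    (hM : M.IsLattice (FractionRing (WittVector p k))) :
    (pPow r M).IsLattice (FractionRing (WittVector p k)) :=
  ⟨pPow_fg r hM.fg, by rw [span_pPow]; exact hM.span_eq_top⟩

theorem isLattice_of_le {M M' : Submodule (WittVector p k) N}
    (hM : M.IsLattice (FractionRing (WittVector p k))) (hle : M ≤ M') (hfg : M'.FG) :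
    M'.IsLattice (FractionRing (WittVector p k)) :=
  ⟨hfg, eq_top_iff.mpr (hM.span_eq_top.ge.trans (Submodule.span_mono hle))⟩

theorem finite_of_lattice {M : Submodule (WittVector p k) N}
    (hM : M.IsLattice (FractionRing (WittVector p k))) :
    Module.Finite (FractionRing (WittVector p k)) N := by
  obtain ⟨s, hs⟩ := hM.fg
  refine ⟨⟨s, ?_⟩⟩
  rw [← hM.span_eq_top, ← hs, Submodule.span_span_of_tower]

theorem ne_bot_of_lattice [Nontrivial N] {M : Submodule (WittVector p k) N}
    (hM : M.IsLattice (FractionRing (WittVector p k))) : M ≠ ⊥ := by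
  intro h
  have := hM.span_eq_top
  rw [h, Submodule.bot_coe, Submodule.span_zero_singleton] at this
  exact bot_ne_top this

section Perfect

variable [PerfectRing k p]

/-- Every vector in the `L`-span of `M` has a `p`-power multiple in `M`. -/
theorem exists_pi_smul_mem {M : Submodule (WittVector p k) N} {x : N}
    (hx : x ∈ Submodule.span (FractionRing (WittVector p k)) (M : Set N)) :
    ∃ c : ℕ, x ∈ pPow (-(c : ℤ)) M := by
  induction hx using Submodule.span_induction with
  | mem y hy => exact ⟨0, by simpa [pPow_zero] using hy⟩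
  | zero => exact ⟨0, zero_mem _⟩
  | add y z _ _ hy hz =>
    obtain ⟨a, ha⟩ := hy
    obtain ⟨b, hb⟩ := hz
    exact ⟨max a b, add_mem (pPow_anti (by omega) M ha) (pPow_anti (by omega) M hb)⟩
  | smul c y _ hy =>
    obtain ⟨a, ha⟩ := hy
    by_cases hc : c = 0
    · exact ⟨0, by simp [hc]⟩
    obtain ⟨e, u, rfl⟩ := exists_isOrdP hc
    refine ⟨(a - e : ℤ).toNat, pPow_anti (r' := e - a) (by omega) M ?_⟩
    rw [mem_pPow] at ha ⊢
    rw [smul_smul, ← mul_assoc, ← pi_add, mul_comm, mul_smul, algebraMap_smul]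
    refine M.smul_mem _ ?_
    convert ha using 3
    ring

theorem exists_le_pPow {M M' : Submodule (WittVector p k) N} (hfg : M'.FG)
    (hle : (M' : Set N) ⊆ Submodule.span (FractionRing (WittVector p k)) (M : Set N)) :
    ∃ c : ℕ, M' ≤ pPow (-(c : ℤ)) M := by
  classical
  obtain ⟨s, rfl⟩ := hfg
  have : ∀ x ∈ s, ∃ c : ℕ, x ∈ pPow (-(c : ℤ)) M := fun x hx =>
    exists_pi_smul_mem (hle (Submodule.subset_span hx))
  choose! f hf using this
  refine ⟨s.sup f, Submodule.span_le.mpr fun x hx => pPow_anti ?_ M (hf x hx)⟩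
  have := Finset.le_sup (f := f) (Finset.mem_coe.mp hx)
  omega

theorem exists_le_pPow_lattice {M M' : Submodule (WittVector p k) N}
    (hM : M.IsLattice (FractionRing (WittVector p k))) (hfg : M'.FG) :
    ∃ c : ℕ, M' ≤ pPow (-(c : ℤ)) M :=
  exists_le_pPow hfg (fun x _ => by simp [hM.span_eq_top])

theorem finite_lattice (M : Submodule (WittVector p k) N)
    (hM : M.IsLattice (FractionRing (WittVector p k))) :
    Module.Free (WittVector p k) M ∧ Module.Finite (WittVector p k) M :=
  ⟨Submodule.IsLattice.free (K := FractionRing (WittVector p k)) M,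
    Submodule.IsLattice.finite (FractionRing (WittVector p k)) M⟩

/-- An `L`-basis of `N` which spans the lattice `M` over `W`. -/
def latBasis {M : Submodule (WittVector p k) N}
    (hM : M.IsLattice (FractionRing (WittVector p k))) :
    Module.Basis (Fin (Module.finrank (WittVector p k) M)) (FractionRing (WittVector p k)) N :=
  haveI := hM
  haveI := (finite_lattice M hM).1
  haveI := (finite_lattice M hM).2
  (Module.finBasis (WittVector p k) M).extendOfIsLattice (FractionRing (WittVector p k))

theorem latBasis_apply {M : Submodule (WittVector p k) N}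
    (hM : M.IsLattice (FractionRing (WittVector p k))) (i) :
    latBasis hM i =
      (haveI := (finite_lattice M hM).1
       haveI := (finite_lattice M hM).2
       ((Module.finBasis (WittVector p k) M i : M) : N)) := by
  simp [latBasis]

theorem latBasis_mem {M : Submodule (WittVector p k) N}
    (hM : M.IsLattice (FractionRing (WittVector p k))) (i) : latBasis hM i ∈ M := by
  rw [latBasis_apply]; exact Subtype.coe_prop _

theorem mem_lattice_iff {M : Submodule (WittVector p k) N}
    (hM : M.IsLattice (FractionRing (WittVector p k))) {x : N} :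
    x ∈ M ↔ ∀ i, (latBasis hM).repr x i ∈
      Set.range (algebraMap (WittVector p k) (FractionRing (WittVector p k))) := by
  haveI := (finite_lattice M hM).1
  haveI := (finite_lattice M hM).2
  constructor
  · intro hx i
    have h1 : x = ∑ j, algebraMap (WittVector p k) (FractionRing (WittVector p k))
        ((Module.finBasis (WittVector p k) M).repr ⟨x, hx⟩ j) • latBasis hM j := by
      simp_rw [algebraMap_smul, latBasis_apply, ← Submodule.coe_smul, ← Submodule.coe_sum]
      rw [(Module.finBasis (WittVector p k) M).sum_repr]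
    refine ⟨(Module.finBasis (WittVector p k) M).repr ⟨x, hx⟩ i, ?_⟩
    conv_rhs => rw [h1]
    rw [Module.Basis.repr_sum_self]
  · intro h
    rw [← (latBasis hM).sum_repr x]
    refine Submodule.sum_mem _ fun i _ => ?_
    obtain ⟨w, hw⟩ := h i
    rw [← hw, algebraMap_smul]
    exact M.smul_mem _ (latBasis_mem hM i)

theorem eq_zero_of_forall_mem {M : Submodule (WittVector p k) N}
    (hM : M.IsLattice (FractionRing (WittVector p k))) {x : N}
    (h : ∀ r : ℕ, x ∈ pPow (r : ℤ) M) : x = 0 := by
  apply (latBasis hM).ext_elem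
  intro i
  rw [map_zero, Finsupp.zero_apply]
  refine eq_zero_of_forall_range fun r => ?_
  have := (mem_lattice_iff hM).mp (mem_pPow.mp (h r)) i
  simpa using this

theorem eq_bot_of_forall_le {M M' : Submodule (WittVector p k) N}
    (hM : M.IsLattice (FractionRing (WittVector p k)))
    (h : ∀ r : ℕ, M' ≤ pPow (r : ℤ) M) : M' = ⊥ :=
  eq_bot_iff.mpr fun _ hx => by
    rw [Submodule.mem_bot]; exact eq_zero_of_forall_mem hM fun r => h r hx

theorem le_of_le_pPow [Nontrivial N] {M : Submodule (WittVector p k) N}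
    (hM : M.IsLattice (FractionRing (WittVector p k))) {r : ℤ}
    (h : M ≤ pPow r M) : r ≤ 0 := by
  by_contra hr
  push Not at hr
  refine ne_bot_of_lattice hM (eq_bot_of_forall_le hM fun n => ?_)
  induction n with
  | zero => simp [pPow_zero]
  | succ n ih =>
    calc M ≤ pPow r M := h
      _ ≤ pPow r (pPow (n : ℤ) M) := pPow_mono r ih
      _ = pPow (r + n) M := pPow_add _ _ M
      _ ≤ _ := pPow_anti (by push_cast; omega) M

end Perfect

/-! ### Iterates and images -/

variable {τ : FractionRing (WittVector p k) →+* FractionRing (WittVector p k)}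

omit [Module (WittVector p k) N] [IsScalarTower (WittVector p k) (FractionRing (WittVector p k)) N] in
theorem iterate_smul_pi (F : N →ₛₗ[τ] N) (s : ℕ) (r : ℤ) (x : N) :
    (⇑F)^[s] (pi p k r • x) = pi p k r • (⇑F)^[s] x := by
  induction s generalizing x with
  | zero => rfl
  | succ s ih =>
    rw [Function.iterate_succ_apply, Function.iterate_succ_apply, map_smulₛₗ, map_pi, ih]

theorem latImg_le_iff {F : N →ₛₗ[τ] N} {s : ℕ} {M M' : Submodule (WittVector p k) N} :
    latImg F s M ≤ M' ↔ ∀ x ∈ M, (⇑F)^[s] x ∈ M' := by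
  rw [latImg, Submodule.span_le]
  exact Set.image_subset_iff

theorem iterate_mem_latImg {F : N →ₛₗ[τ] N} {s : ℕ} {M : Submodule (WittVector p k) N} {x : N}
    (hx : x ∈ M) : (⇑F)^[s] x ∈ latImg F s M :=
  Submodule.subset_span ⟨x, hx, rfl⟩

theorem latImg_mono (F : N →ₛₗ[τ] N) (s : ℕ) {M M' : Submodule (WittVector p k) N} (h : M ≤ M') :
    latImg F s M ≤ latImg F s M' :=
  Submodule.span_mono (Set.image_mono h)

theorem latImg_zero (F : N →ₛₗ[τ] N) (M : Submodule (WittVector p k) N) : latImg F 0 M = M := by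
  simp [latImg]

variable [Good τ]

theorem map_wsmul (F : N →ₛₗ[τ] N) (w : WittVector p k) (x : N) :
    F (w • x) = sig τ w • F x := by
  rw [← algebraMap_smul (FractionRing (WittVector p k)) w, map_smulₛₗ, tau_algebraMap,
    algebraMap_smul]

theorem iterate_wsmul (F : N →ₛₗ[τ] N) (s : ℕ) (w : WittVector p k) (x : N) :
    (⇑F)^[s] (w • x) = (⇑(sig τ))^[s] w • (⇑F)^[s] x := by
  induction s generalizing x w with
  | zero => rfl
  | succ s ih => simp only [Function.iterate_succ_apply, map_wsmul, ih]

theorem mem_latImg {F : N →ₛₗ[τ] N} {s : ℕ} {M : Submodule (WittVector p k) N} {y : N} :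
    y ∈ latImg F s M ↔ ∃ x ∈ M, (⇑F)^[s] x = y := by
  refine ⟨fun hy => ?_, fun ⟨x, hx, h⟩ => h ▸ iterate_mem_latImg hx⟩
  induction hy using Submodule.span_induction with
  | mem z hz => exact hz
  | zero => exact ⟨0, zero_mem _, iterate_map_zero F s⟩
  | add a b _ _ ha hb =>
    obtain ⟨x, hx, rfl⟩ := ha
    obtain ⟨x', hx', rfl⟩ := hb
    exact ⟨x + x', add_mem hx hx', iterate_map_add F s x x'⟩
  | smul w a _ ha =>
    obtain ⟨x, hx, rfl⟩ := ha
    obtain ⟨w', rfl⟩ := ((sig τ).surjective.iterate s) w
    exact ⟨w' • x, M.smul_mem _ hx, iterate_wsmul F s w' x⟩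

theorem latImg_latImg (F : N →ₛₗ[τ] N) (s t : ℕ) (M : Submodule (WittVector p k) N) :
    latImg F s (latImg F t M) = latImg F (s + t) M := by
  ext y
  simp only [mem_latImg]
  constructor
  · rintro ⟨x, ⟨x', hx', rfl⟩, rfl⟩
    exact ⟨x', hx', Function.iterate_add_apply _ _ _ _⟩
  · rintro ⟨x', hx', rfl⟩
    exact ⟨_, ⟨x', hx', rfl⟩, (Function.iterate_add_apply _ _ _ _).symm⟩

theorem latImg_pPow (F : N →ₛₗ[τ] N) (s : ℕ) (r : ℤ) (M : Submodule (WittVector p k) N) :
    latImg F s (pPow r M) = pPow r (latImg F s M) := by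
  ext y
  rw [mem_pPow, mem_latImg, mem_latImg]
  constructor
  · rintro ⟨x, hx, rfl⟩
    exact ⟨_, mem_pPow.mp hx, iterate_smul_pi F s _ x⟩
  · rintro ⟨x, hx, h⟩
    refine ⟨_, smul_mem_pPow hx, ?_⟩
    rw [iterate_smul_pi, h, smul_smul, ← pi_add, add_neg_cancel,
      show pi p k 0 = 1 from zpow_zero _, one_smul]

theorem latImg_sup (F : N →ₛₗ[τ] N) (s : ℕ) (M M' : Submodule (WittVector p k) N) :
    latImg F s (M ⊔ M') = latImg F s M ⊔ latImg F s M' := by
  refine le_antisymm (latImg_le_iff.mpr fun x hx => ?_)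
    (sup_le (latImg_mono F s le_sup_left) (latImg_mono F s le_sup_right))
  obtain ⟨a, ha, b, hb, rfl⟩ := Submodule.mem_sup.mp hx
  rw [iterate_map_add]
  exact Submodule.add_mem_sup (iterate_mem_latImg ha) (iterate_mem_latImg hb)

theorem latImg_fg (F : N →ₛₗ[τ] N) (s : ℕ) {M : Submodule (WittVector p k) N} (h : M.FG) :
    (latImg F s M).FG := by
  classical
  obtain ⟨t, rfl⟩ := h
  refine ⟨t.image (⇑F)^[s], le_antisymm ?_ ?_⟩
  · rw [Submodule.span_le, Finset.coe_image]
    rintro _ ⟨x, hx, rfl⟩
    exact iterate_mem_latImg (Submodule.subset_span hx)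
  · rw [latImg_le_iff]
    intro x hx
    rw [Finset.coe_image]
    induction hx using Submodule.span_induction with
    | mem z hz => exact Submodule.subset_span ⟨z, hz, rfl⟩
    | zero => rw [iterate_map_zero]; exact zero_mem _
    | add a b _ _ ha hb => rw [iterate_map_add]; exact add_mem ha hb
    | smul w a _ ha => rw [iterate_wsmul]; exact Submodule.smul_mem _ _ ha

theorem span_latImg_eq_top (F : N →ₛₗ[τ] N) (hF : Function.Surjective F) (s : ℕ)
    {M : Submodule (WittVector p k) N}
    (hM : Submodule.span (FractionRing (WittVector p k)) (M : Set N) = ⊤) :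
    Submodule.span (FractionRing (WittVector p k)) (latImg F s M : Set N) = ⊤ := by
  rw [eq_top_iff]
  intro y _
  obtain ⟨x, rfl⟩ := (hF.iterate s) y
  have hx : x ∈ Submodule.span (FractionRing (WittVector p k)) (M : Set N) := by rw [hM]; trivial
  induction hx using Submodule.span_induction with
  | mem z hz => exact Submodule.subset_span (iterate_mem_latImg hz)
  | zero => rw [iterate_map_zero]; exact zero_mem _
  | add a b _ _ ha hb => rw [iterate_map_add]; exact add_mem (ha trivial) (hb trivial)
  | smul c a _ ha =>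
    have : (⇑F)^[s] (c • a) = (τ ^ s) c • (⇑F)^[s] a := map_smulₛₗ (Isoc.iter F s) c a
    rw [this]
    exact Submodule.smul_mem _ _ (ha trivial)

theorem isLattice_latImg {F : N →ₛₗ[τ] N} (hF : Isoc.IsIsoc F) (s : ℕ)
    {M : Submodule (WittVector p k) N} (hM : M.IsLattice (FractionRing (WittVector p k))) :
    (latImg F s M).IsLattice (FractionRing (WittVector p k)) :=
  ⟨latImg_fg F s hM.fg, span_latImg_eq_top F hF.bijective.surjective s hM.span_eq_top⟩

/-- Iterating an inclusion `F^s M ≤ p^r M`. -/
theorem latImg_mul_le {F : N →ₛₗ[τ] N} {s : ℕ} {r : ℤ} {M : Submodule (WittVector p k) N}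
    (h : latImg F s M ≤ pPow r M) (n : ℕ) : latImg F (s * n) M ≤ pPow (r * n) M := by
  induction n with
  | zero => simp [latImg_zero, pPow_zero]
  | succ n ih =>
    rw [show s * (n + 1) = s * n + s by ring, ← latImg_latImg]
    calc _ ≤ latImg F (s * n) (pPow r M) := latImg_mono _ _ h
      _ = pPow r (latImg F (s * n) M) := latImg_pPow _ _ _ _
      _ ≤ pPow r (pPow (r * n) M) := pPow_mono _ ih
      _ = _ := by rw [pPow_add]; congr 1; push_cast; ring

/-- Iterating an equality `F^s M = p^r M`. -/
theorem latImg_mul_eq {F : N →ₛₗ[τ] N} {s : ℕ} {r : ℤ} {M : Submodule (WittVector p k) N}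
    (h : latImg F s M = pPow r M) (n : ℕ) : latImg F (s * n) M = pPow (r * n) M := by
  induction n with
  | zero => simp [latImg_zero, pPow_zero]
  | succ n ih =>
    rw [show s * (n + 1) = s * n + s by ring, ← latImg_latImg, h, latImg_pPow, ih, pPow_add]
    congr 1; push_cast; ring

theorem latImg_add_le {F : N →ₛₗ[τ] N} {s t : ℕ} {r q : ℤ} {M : Submodule (WittVector p k) N}
    (h : latImg F s M ≤ pPow r M) (h' : latImg F t M ≤ pPow q M) :
    latImg F (s + t) M ≤ pPow (r + q) M := by
  rw [← latImg_latImg]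
  calc _ ≤ latImg F s (pPow q M) := latImg_mono _ _ h'
    _ = pPow q (latImg F s M) := latImg_pPow _ _ _ _
    _ ≤ pPow q (pPow r M) := pPow_mono _ h
    _ = _ := by rw [pPow_add, add_comm]

theorem coe_twist (F : N →ₛₗ[τ] N) (s : ℕ) (r : ℤ) (n : ℕ) (x : N) :
    (⇑((pi p k r) • Isoc.iter F s))^[n] x = pi p k (r * n) • (⇑F)^[s * n] x := by
  induction n generalizing x with
  | zero => simp [pi]
  | succ n ih =>
    rw [Function.iterate_succ_apply', ih, LinearMap.smul_apply, Isoc.iter_apply, iterate_smul_pi,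
      smul_smul, ← pi_add, ← Function.iterate_add_apply]
    congr 2
    · push_cast; ring
    · ring

theorem latImg_twist (F : N →ₛₗ[τ] N) (s : ℕ) (r : ℤ) (n : ℕ) (M : Submodule (WittVector p k) N) :
    latImg ((pi p k r) • Isoc.iter F s) n M = pPow (r * n) (latImg F (s * n) M) := by
  ext y
  rw [mem_pPow, mem_latImg, mem_latImg]
  refine exists_congr fun x => and_congr_right fun _ => ?_
  rw [coe_twist]
  constructor
  · rintro rfl
    rw [smul_smul, ← pi_add, neg_add_cancel, show pi p k 0 = 1 from zpow_zero _, one_smul]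
  · intro h
    rw [h, smul_smul, ← pi_add, add_neg_cancel, show pi p k 0 = 1 from zpow_zero _, one_smul]

omit [Good τ] in
theorem isIsoc_twist {F : N →ₛₗ[τ] N} (hF : Isoc.IsIsoc F) (s : ℕ) (r : ℤ) :
    Isoc.IsIsoc ((pi p k r) • Isoc.iter F s) := by
  refine ⟨hF.finite, ?_⟩
  have h1 : Function.Bijective (fun x : N => pi p k r • x) := MulAction.bijective₀ (pi_ne_zero r)
  exact h1.comp (hF.bijective.iterate s)

end Module

end Groth.Agent.IsocLib

end
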