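import Groth.Agent.IsocLib.Ord
import Mathlib.Data.Nat.Factorial.Basic

/-!
# The chain lemma and rationality of the first slope

From `F^s M ⊆ p^r M` we build the chain `Λ_j = Σ_{i<s} p^{⌈(j - i r)/s⌉} F^i M`, decreasing in
`j`, with `p Λ_j = Λ_{j+s}` and `F Λ_j ⊆ Λ_{j+r}`.
-/

set_option autoImplicit false
set_option linter.unusedSectionVars false

noncomputable section

open scoped Pointwise
open Isoc Filter Topology

universe u v

namespace Groth.Agent.IsocLib

variable {p : ℕ} [Fact p.Prime] {k : Type u} [Field k] [CharP k p]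
variable {N : Type v} [AddCommGroup N] [Module (WittVector p k) N]
  [Module (FractionRing (WittVector p k)) N]
  [IsScalarTower (WittVector p k) (FractionRing (WittVector p k)) N]
variable {τ : FractionRing (WittVector p k) →+* FractionRing (WittVector p k)} [Good τ]
variable {F : N →ₛₗ[τ] N}

/-- `⌈(j - i r)/s⌉`. -/
def cl (r : ℤ) (s : ℕ) (j : ℤ) (i : ℕ) : ℤ := -((i * r - j) / (s : ℤ))

variable (F) in
/-- The chain of lattices attached to `F^s M ⊆ p^r M`. -/
def chain (M : Submodule (WittVector p k) N) (r : ℤ) (s : ℕ) (j : ℤ) :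
    Submodule (WittVector p k) N :=
  ⨆ i : Fin s, pPow (cl r s j i) (latImg F i M)

theorem chain_anti (M : Submodule (WittVector p k) N) (r : ℤ) (s : ℕ) {j j' : ℤ} (h : j ≤ j') :
    chain F M r s j' ≤ chain F M r s j := by
  refine iSup_mono fun i => pPow_anti ?_ _
  unfold cl
  have := Int.ediv_le_ediv (c := (s : ℤ)) (by have := i.isLt; omega)
    (show (i : ℤ) * r - j' ≤ (i : ℤ) * r - j by linarith)
  omega

theorem pPow_iSup {ι : Sort*} (r : ℤ) (f : ι → Submodule (WittVector p k) N) :
    pPow r (⨆ i, f i) = ⨆ i, pPow r (f i) :=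
  Submodule.map_iSup _ _

theorem chain_shift (M : Submodule (WittVector p k) N) (r : ℤ) {s : ℕ} (hs : 0 < s) (j e : ℤ) :
    chain F M r s (j + e * s) = pPow e (chain F M r s j) := by
  rw [chain, chain, pPow_iSup]
  refine iSup_congr fun i => ?_
  rw [pPow_add]
  congr 1
  unfold cl
  rw [show (i : ℤ) * r - (j + e * s) = ((i : ℤ) * r - j) + (-e) * (s : ℤ) by ring,
    Int.add_mul_ediv_right _ _ (by omega)]
  ring

theorem isLattice_chain {M : Submodule (WittVector p k) N}
    (hM : M.IsLattice (FractionRing (WittVector p k))) (r : ℤ) {s : ℕ} (hs : 0 < s) (j : ℤ) :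
    (chain F M r s j).IsLattice (FractionRing (WittVector p k)) := by
  refine isLattice_of_le (isLattice_pPow (cl r s j 0) hM)
    (le_trans (le_of_eq ?_) (le_iSup _ (⟨0, hs⟩ : Fin s)))
    (Submodule.fg_iSup _ fun i => pPow_fg _ (latImg_fg F _ hM.fg))
  rw [latImg_zero]

theorem latImg_chain {M : Submodule (WittVector p k) N} {r : ℤ} {s : ℕ} (hs : 0 < s)
    (h : latImg F s M ≤ pPow r M) (j : ℤ) :
    latImg F 1 (chain F M r s j) ≤ chain F M r s (j + r) := by
  rw [latImg_le_iff]
  intro x hx
  rw [chain] at hx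
  induction hx using Submodule.iSup_induction' with
  | zero => rw [iterate_map_zero]; exact zero_mem _
  | add y z _ _ hy hz => rw [iterate_map_add]; exact add_mem hy hz
  | mem i x hx =>
    have key : latImg F 1 (pPow (cl r s j i) (latImg F i M)) ≤ chain F M r s (j + r) := by
      rw [latImg_pPow, latImg_latImg, add_comm 1 (i : ℕ)]
      rcases Nat.lt_or_ge (i + 1 : ℕ) s with hi | hi
      · refine le_trans (le_of_eq ?_) (le_iSup _ (⟨(i : ℕ) + 1, hi⟩ : Fin s))
        congr 1
        unfold cl
        push_cast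
        ring_nf
      · have his : (i : ℕ) + 1 = s := le_antisymm i.isLt hi
        refine le_trans ?_ (le_iSup _ (⟨0, hs⟩ : Fin s))
        rw [his]
        calc pPow (cl r s j i) (latImg F s M) ≤ pPow (cl r s j i) (pPow r M) := pPow_mono _ h
          _ = pPow (cl r s (j + r) 0) M := by
            rw [pPow_add]; congr 1
            unfold cl
            have hi' : (i : ℤ) = (s : ℤ) - 1 := by omega
            rw [hi', show ((s : ℤ) - 1) * r - j = ((0 : ℕ) : ℤ) * r - (j + r) + r * (s : ℤ) by
              push_cast; ring, Int.add_mul_ediv_right _ _ (by omega)]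
            ring
          _ ≤ _ := by simp [latImg_zero]
    exact key (iterate_mem_latImg hx)

theorem latImg_chain_iterate {M : Submodule (WittVector p k) N} {r : ℤ} {s : ℕ} (hs : 0 < s)
    (h : latImg F s M ≤ pPow r M) (n : ℕ) (j : ℤ) :
    latImg F n (chain F M r s j) ≤ chain F M r s (j + n * r) := by
  induction n generalizing j with
  | zero => simp [latImg_zero]
  | succ n ih =>
    rw [← latImg_latImg]
    calc _ ≤ latImg F n (chain F M r s (j + r)) := latImg_mono _ _ (latImg_chain hs h j)
      _ ≤ _ := ih _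
      _ = _ := by congr 1; push_cast; ring

/-- From `F^s M ⊆ p^r M` we get lattices for all smaller slopes. -/
theorem exists_lattice_of_le {M : Submodule (WittVector p k) N}
    (hM : M.IsLattice (FractionRing (WittVector p k))) {r : ℤ} {s : ℕ} (hs : 0 < s)
    (h : latImg F s M ≤ pPow r M) {r' : ℤ} {s' : ℕ} (hle : r' * s ≤ r * s') :
    ∃ M' : Submodule (WittVector p k) N, M'.IsLattice (FractionRing (WittVector p k)) ∧
      latImg F s' M' ≤ pPow r' M' := by
  refine ⟨chain F M r s 0, isLattice_chain hM r hs 0, ?_⟩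
  refine (latImg_chain_iterate hs h s' 0).trans ?_
  rw [← chain_shift M r hs 0 r']
  exact chain_anti M r s (by linarith)

variable [PerfectRing k p]

/-- A decreasing chain between a lattice and `p` times it has at most `dim N` strict steps. -/
theorem card_jumps_le [Module.Finite (FractionRing (WittVector p k)) N]
    (S : ℤ → Submodule (WittVector p k) N) (hS : Antitone S) (s : ℕ)
    (hps : pPow 1 (S 0) ≤ S s) (J : Finset ℤ)
    (hJ : ∀ j ∈ J, 0 ≤ j ∧ j < s ∧ S (j + 1) ≠ S j) :
    J.card ≤ Module.finrank (FractionRing (WittVector p k)) N := by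
  classical
  have : ∀ j : J, ∃ x ∈ S j, x ∉ S ((j : ℤ) + 1) := fun j =>
    SetLike.exists_of_lt (lt_of_le_of_ne (hS (by omega)) (hJ j j.2).2.2)
  choose x hx hx' using this
  suffices hli : LinearIndependent (FractionRing (WittVector p k)) x by
    simpa using hli.fintype_card_le_finrank
  rw [Fintype.linearIndependent_iff]
  intro g hg
  by_contra hne
  push Not at hne
  obtain ⟨i₁, hi₁⟩ := hne
  have he : ∀ i, g i ≠ 0 → ∃ e, IsOrdP (g i) e := fun i hi => exists_isOrdP hi
  choose! e he using he
  obtain ⟨i₂, hi₂, hmin⟩ := Finset.exists_min_image (Finset.univ.filter fun i => g i ≠ 0) e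
    ⟨i₁, by simp [hi₁]⟩
  have hint : ∀ i, ∃ w : WittVector p k, algebraMap _ (FractionRing (WittVector p k)) w =
      pi p k (-(e i₂)) * g i := by
    intro i
    by_cases hgi : g i = 0
    · exact ⟨0, by simp [hgi]⟩
    · obtain ⟨w, hw⟩ := isOrdP_mem_range (isOrdP_mul (isOrdP_pi (p := p) (k := k) (-(e i₂))) (he i hgi))
        (by have := hmin i (by simp [hgi]); omega)
      exact ⟨w, hw⟩
  choose w hw using hint
  have hsum : ∑ i, w i • x i = 0 := by
    have h0 := congrArg (fun z => pi p k (-(e i₂)) • z) hg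
    simp only [Finset.smul_sum, smul_smul, smul_zero] at h0
    rw [← h0]
    exact Finset.sum_congr rfl fun i _ => by
      rw [← algebraMap_smul (FractionRing (WittVector p k)) (w i), hw]
  have hu : IsUnit (w i₂) := by
    have h2 := isOrdP_mul (isOrdP_pi (p := p) (k := k) (-(e i₂)))
      (he i₂ (Finset.mem_filter.mp hi₂).2)
    rw [neg_add_cancel, ← hw] at h2
    obtain ⟨u, hu⟩ := h2
    exact ⟨u, IsFractionRing.injective _ (FractionRing (WittVector p k)) (by rw [hu]; simp)⟩
  obtain ⟨i₀, hi₀, hmin₀⟩ := Finset.exists_min_image (Finset.univ.filter fun i => IsUnit (w i))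
    (fun i => (i : ℤ)) ⟨i₂, by simp [hu]⟩
  have hi₀' : IsUnit (w i₀) := (Finset.mem_filter.mp hi₀).2
  have hmem : w i₀ • x i₀ ∈ S ((i₀ : ℤ) + 1) := by
    rw [← Finset.add_sum_erase _ _ (Finset.mem_univ i₀), add_eq_zero_iff_eq_neg] at hsum
    rw [hsum]
    refine neg_mem (Submodule.sum_mem _ fun i hi => ?_)
    have hne : i ≠ i₀ := (Finset.mem_erase.mp hi).1
    rcases lt_trichotomy (i : ℤ) i₀ with hlt | heq | hgt
    · have hnu : ¬ IsUnit (w i) := fun h => by
        have := hmin₀ i (by simp [h]); omega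
      have hdiv : (p : WittVector p k) ∣ w i := by
        by_cases h0 : w i = 0
        · simp [h0]
        · obtain ⟨m, b, hb⟩ := WittVector.exists_eq_pow_p_mul' (w i) h0
          rcases m with _ | m
          · exact absurd ⟨b, by simp [hb]⟩ hnu
          · exact hb ▸ Dvd.dvd.mul_right (dvd_pow_self _ (Nat.succ_ne_zero m)) _
      obtain ⟨z, hz⟩ := hdiv
      rw [hz, mul_smul, ← algebraMap_smul (FractionRing (WittVector p k)) (p : WittVector p k),
        ← pi_one]
      refine hS ?_ (hps (smul_mem_pPow (Submodule.smul_mem _ z (hS (hJ i i.2).1 (hx i)))))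
      have := (hJ i₀ i₀.2).2.1
      omega
    · exact absurd (Subtype.ext heq) hne
    · exact Submodule.smul_mem _ _ (hS (by omega) (hx i))
  obtain ⟨u, hu⟩ := hi₀'
  refine hx' i₀ ?_
  have := Submodule.smul_mem _ (↑u⁻¹ : WittVector p k) hmem
  rwa [← hu, smul_smul, Units.inv_mul, one_smul] at this

/-- THE CHAIN LEMMA: a slope with denominator at most the height, at least as large. -/
theorem exists_small_den [Nontrivial N] [Module.Finite (FractionRing (WittVector p k)) N]
    {M : Submodule (WittVector p k) N} (hM : M.IsLattice (FractionRing (WittVector p k)))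
    {r : ℤ} {s : ℕ} (hs : 0 < s) (h : latImg F s M ≤ pPow r M) :
    ∃ (e : ℤ) (c : ℕ) (M' : Submodule (WittVector p k) N),
      M'.IsLattice (FractionRing (WittVector p k)) ∧ 0 < c ∧
      c ≤ Module.finrank (FractionRing (WittVector p k)) N ∧ r * c ≤ e * s ∧
      latImg F c M' ≤ pPow e M' := by
  classical
  let S : ℤ → Submodule (WittVector p k) N := chain F M r s
  have hS : Antitone S := fun _ _ hj => chain_anti M r s hj
  let P : ℤ → Prop := fun j => S (j + 1) ≠ S j
  have hex : ∀ j : ℤ, ∃ n : ℕ, P (j + n) := by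
    intro j
    by_contra hc
    have hc' : ∀ n : ℕ, S (j + n + 1) = S (j + n) := fun n =>
      not_not.mp (not_exists.mp hc n)
    have hc : ∀ n : ℕ, S (j + n) = S j := by
      intro n
      induction n with
      | zero => simp
      | succ n ih =>
        rw [← ih, ← hc' n]; congr 1; push_cast; ring
    have h1 : S (j + (1 : ℤ) * s) = pPow 1 (S j) := chain_shift M r hs j 1
    rw [show j + (1 : ℤ) * s = j + ((s : ℕ) : ℤ) by ring, hc s] at h1
    have := le_of_le_pPow (isLattice_chain hM r hs j) h1.le
    omega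
  let φ : ℤ → ℤ := fun j => j + r + Nat.find (hex (j + r))
  have hφ1 : ∀ j, j + r ≤ φ j := fun j => by simp [φ]
  have hφP : ∀ j, P (φ j) := fun j => Nat.find_spec (hex (j + r))
  have hφ2 : ∀ j, S (j + r) = S (φ j) := by
    intro j
    have : ∀ n : ℕ, n ≤ Nat.find (hex (j + r)) → S (j + r + n) = S (j + r) := by
      intro n
      induction n with
      | zero => simp
      | succ n ih =>
        intro hn
        have h2 : S (j + r + n + 1) = S (j + r + n) :=
          not_not.mp (Nat.find_min (hex (j + r)) (by omega : n < Nat.find (hex (j + r))))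
        rw [← ih (by omega), ← h2]; congr 1; push_cast; ring
    exact (this _ le_rfl).symm
  obtain ⟨n₀, hn₀⟩ := hex 0
  let q : ℕ → ℤ := fun n => φ^[n] (0 + n₀)
  have hq_succ : ∀ n, q (n + 1) = φ (q n) := fun n => Function.iterate_succ_apply' _ _ _
  have hq : ∀ n, P (q n) := by
    intro n
    cases n with
    | zero => exact hn₀
    | succ n => rw [hq_succ]; exact hφP _
  have hqF : ∀ a n, latImg F n (S (q a)) ≤ S (q (a + n)) := by
    intro a n
    induction n with
    | zero => simp [latImg_zero]
    | succ n ih =>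
      rw [show n + 1 = 1 + n by ring, ← latImg_latImg]
      calc _ ≤ latImg F 1 (S (q (a + n))) := latImg_mono _ _ ih
        _ ≤ S (q (a + n) + r) := latImg_chain hs h _
        _ = _ := by
          rw [hφ2, show a + (1 + n) = a + n + 1 by ring, hq_succ]
  have hqr : ∀ a n, q a + n * r ≤ q (a + n) := by
    intro a n
    induction n with
    | zero => simp
    | succ n ih =>
      have := hφ1 (q (a + n))
      rw [← hq_succ, add_assoc a n 1] at this
      push_cast
      linarith
  let J : Finset ℤ := (Finset.Ico (0 : ℤ) s).filter P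
  have hJ : J.card ≤ Module.finrank (FractionRing (WittVector p k)) N := by
    refine card_jumps_le S hS s ?_ J fun j hj => ?_
    · have := chain_shift (F := F) M r hs 0 1
      simp only [one_mul, zero_add] at this
      exact this.ge
    · simp only [J, Finset.mem_filter, Finset.mem_Ico] at hj
      exact ⟨hj.1.1, hj.1.2, hj.2⟩
  have hmaps : ∀ n ∈ Finset.range (Module.finrank (FractionRing (WittVector p k)) N + 1),
      q n % (s : ℤ) ∈ J := by
    intro n _
    simp only [J, Finset.mem_filter, Finset.mem_Ico]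
    refine ⟨⟨Int.emod_nonneg _ (by omega), Int.emod_lt_of_pos _ (by omega)⟩, ?_⟩
    intro hc
    apply hq n
    have key : ∀ j : ℤ, S j = pPow (q n / (s : ℤ)) (S (j - q n / (s : ℤ) * s)) := fun j => by
      rw [← chain_shift M r hs]; congr 1; ring
    rw [key, key (q n), show q n + 1 - q n / (s : ℤ) * s = q n % (s : ℤ) + 1 by
      rw [Int.emod_def]; ring, show q n - q n / (s : ℤ) * s = q n % (s : ℤ) by
      rw [Int.emod_def]; ring, hc]
  obtain ⟨a, ha, b, hb, hab, heq⟩ := Finset.exists_ne_map_eq_of_card_lt_of_maps_to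
    (by rw [Finset.card_range]; omega) hmaps
  wlog hlt : a < b generalizing a b with H
  · exact H b hb a ha hab.symm heq.symm (by omega)
  simp only [Finset.mem_range] at ha hb
  obtain ⟨c, rfl⟩ : ∃ c, b = a + c := ⟨b - a, by omega⟩
  obtain ⟨e, he⟩ : (s : ℤ) ∣ q (a + c) - q a := Int.ModEq.dvd heq
  refine ⟨e, c, S (q a), isLattice_chain hM r hs _, by omega, by omega, ?_, ?_⟩
  · have := hqr a c
    linarith
  · refine (hqF a c).trans (le_of_eq ?_)
    rw [← chain_shift M r hs, show q (a + c) = q a + e * s by linarith]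

/-- The first slope is rational with denominator at most the height, and attained. -/
theorem exists_slope_eq (hF : IsIsoc F) {lam : ℝ} (hlam : IsFirstSlope F lam) :
    ∃ (e : ℤ) (c : ℕ) (M : Submodule (WittVector p k) N), 0 < c ∧
      c ≤ Module.finrank (FractionRing (WittVector p k)) N ∧ lam = (e : ℝ) / c ∧
      M.IsLattice (FractionRing (WittVector p k)) ∧ latImg F c M ≤ pPow e M := by
  haveI := nontrivial_of_isFirstSlope hlam
  haveI := hF.finite
  set h := Module.finrank (FractionRing (WittVector p k)) N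
  let K : ℕ := Nat.factorial h
  have hK : (0 : ℝ) < K := by exact_mod_cast Nat.factorial_pos h
  set m : ℤ := ⌈lam * K⌉ - 1 with hm
  have hm1 : (m : ℝ) / K < lam := by
    rw [div_lt_iff₀ hK, hm]
    push_cast
    linarith [Int.ceil_lt_add_one (lam * K)]
  obtain ⟨μ, hμ1, hμ2⟩ := exists_rat_btwn hm1
  have hμe : (μ : ℝ) = (μ.num : ℝ) / (μ.den : ℕ) := by exact_mod_cast μ.num_div_den.symm
  obtain ⟨M, hM, hMμ⟩ := exists_lattice_of_lt hF hlam μ.den_pos (hμe ▸ hμ2)
  obtain ⟨e, c, M', hM', hc, hch, hle, hM'e⟩ := exists_small_den hM μ.den_pos hMμ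
  refine ⟨e, c, M', hc, hch, ?_, hM', hM'e⟩
  refine le_antisymm ?_ (div_le_slope hF hlam hM' hc hM'e)
  by_contra hlt
  push Not at hlt
  have hd : c ∣ K := Nat.dvd_factorial hc hch
  obtain ⟨t, ht⟩ := hd
  have hc' : (0 : ℝ) < c := by exact_mod_cast hc
  have htr : (K : ℝ) = c * t := by exact_mod_cast ht
  have ht' : (e : ℝ) / c = ((e * t : ℤ) : ℝ) / K := by
    push_cast
    rw [htr, mul_div_mul_right]
    intro h0
    rw [h0, mul_zero] at htr
    linarith
  have h1 : e * (t : ℤ) ≤ m := by
    have h2 : ((e * t : ℤ) : ℝ) < lam * K := by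
      rw [ht', div_lt_iff₀ hK] at hlt; exact hlt
    have h3 := Int.lt_ceil.mpr h2
    omega
  have h4 : (e : ℝ) / c ≤ (m : ℝ) / K := by
    rw [ht']
    exact div_le_div_of_nonneg_right (by exact_mod_cast h1) hK.le
  have h5 : (μ : ℝ) ≤ (e : ℝ) / c := by
    rw [hμe, div_le_div_iff₀ (by exact_mod_cast μ.den_pos) hc']
    exact_mod_cast hle
  linarith

/-- Every rational at most the first slope is attained by a lattice. -/
theorem exists_lattice_of_le_slope (hF : IsIsoc F) {lam : ℝ} (hlam : IsFirstSlope F lam)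
    {r : ℤ} {s : ℕ} (hs : 0 < s) (hrs : (r : ℝ) / s ≤ lam) :
    ∃ M : Submodule (WittVector p k) N, M.IsLattice (FractionRing (WittVector p k)) ∧
      latImg F s M ≤ pPow r M := by
  obtain ⟨e, c, M, hc, -, rfl, hM, h⟩ := exists_slope_eq hF hlam
  refine exists_lattice_of_le hM hc h ?_
  rw [div_le_div_iff₀ (by exact_mod_cast hs) (by exact_mod_cast hc)] at hrs
  exact_mod_cast hrs

end Groth.Agent.IsocLib

end
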