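import Groth.Agent.IsocLib.Fitting
import Groth.Agent.IsocLib.BlockDiag
import Mathlib.Algebra.DirectSum.Module
import Mathlib.LinearAlgebra.FiniteDimensional.Lemmas

/-!
# The slope decomposition
-/

set_option autoImplicit false
set_option linter.unusedSectionVars false

noncomputable section

open scoped Pointwise
open Isoc

universe u v

namespace Groth.Agent.IsocLib

variable {p : ℕ} [Fact p.Prime] {k : Type u} [Field k] [CharP k p] [PerfectRing k p]
variable {N : Type v} [AddCommGroup N] [Module (WittVector p k) N]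
  [Module (FractionRing (WittVector p k)) N]
  [IsScalarTower (WittVector p k) (FractionRing (WittVector p k)) N]
variable {τ : FractionRing (WittVector p k) →+* FractionRing (WittVector p k)} [Good τ]
variable {F : N →ₛₗ[τ] N}

/-- Splitting off a non-zero isoclinic piece with a stable complement. -/
theorem exists_split [Nontrivial N] (hF : IsIsoc F) :
    ∃ (μ : ℚ) (A B : Submodule (FractionRing (WittVector p k)) N), A ≠ ⊥ ∧ IsCompl A B ∧
      (∀ x ∈ A, F x ∈ A) ∧ (∀ x ∈ B, F x ∈ B) ∧ IsoIn F A μ := by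
  haveI := hF.finite
  obtain ⟨M₀, hM₀⟩ := exists_lattice (p := p) (k := k) (N := N)
  obtain ⟨lam, hlam⟩ := exists_isFirstSlope hF hM₀
  obtain ⟨e, c, M, hc, -, hl, hM, hle⟩ := exists_slope_eq hF hlam
  set G := pi p k (-e) • Isoc.iter F c with hGdef
  have hG : IsIsoc G := isIsoc_twist hF c (-e)
  have hGM : latImg G 1 M ≤ M := by
    rw [hGdef, latImg_twist, mul_one, pPow_le_iff]
    simpa using hle
  have hcomm : ∀ x, F (G x) = G (F x) := fun x => by
    rw [hGdef, LinearMap.smul_apply, LinearMap.smul_apply, Isoc.iter_apply, Isoc.iter_apply,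
      map_smulₛₗ, map_pi, ← Function.iterate_succ_apply' (⇑F), Function.iterate_succ_apply]
  set A := Submodule.span (FractionRing (WittVector p k)) (uroot G M : Set N)
  refine ⟨(e : ℚ) / c, A, contr G M 0 1, fun hA => ?_,
    IsCompl.of_eq (span_uroot_inf_contr hG hM hGM) (span_uroot_sup_contr hG hM hGM),
    fun x hx => span_uroot_stable F hcomm hM hx, fun x hx => contr_stable F hcomm hM hx,
    uroot G M, uroot_fg hM, rfl, e, c, hc, rfl, ?_⟩
  · obtain ⟨n₀, hn₀, h1⟩ := latImg_le_uroot_sup hG hM hGM
    have hU : uroot G M = ⊥ := eq_bot_iff.mpr fun x hx => by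
      rw [Submodule.mem_bot, ← Submodule.mem_bot (FractionRing (WittVector p k)), ← hA]
      exact Submodule.subset_span hx
    have h2 := h1 1
    rw [hU, bot_sup_eq, one_mul, Nat.cast_one, hGdef, latImg_twist, pPow_le_iff, pPow_add] at h2
    have h3 := div_le_slope hF hlam hM (Nat.mul_pos hc hn₀) h2
    rw [hl, div_le_div_iff₀ (by exact_mod_cast Nat.mul_pos hc hn₀) (by exact_mod_cast hc)] at h3
    push_cast at h3
    have : (0 : ℝ) < c := by exact_mod_cast hc
    nlinarith
  · have h1 := latImg_uroot hG hGM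
    generalize uroot G M = U at h1 ⊢
    rw [hGdef, latImg_twist, mul_one, Nat.cast_one, mul_one] at h1
    conv_rhs => rw [← h1, pPow_add, add_neg_cancel, pPow_zero]

theorem le_iSup_slopePart (hF : IsIsoc F) (P : Submodule (FractionRing (WittVector p k)) N)
    (hP : ∀ x ∈ P, F x ∈ P) : P ≤ ⨆ μ : ℚ, slopePart F μ := by
  haveI := hF.finite
  induction hn : Module.finrank (FractionRing (WittVector p k)) P using Nat.strong_induction_on
    generalizing P with
  | _ n ih =>
  rcases eq_or_ne P ⊥ with rfl | hne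
  · exact bot_le
  haveI : Nontrivial P := Submodule.nontrivial_iff_ne_bot.mpr hne
  obtain ⟨μ, A, B, hA, hAB, hAs, hBs, hμ⟩ := exists_split (isIsoc_restrict hF hP)
  have hst : ∀ C : Submodule (FractionRing (WittVector p k)) P,
      (∀ x ∈ C, F.restrict hP x ∈ C) → ∀ x ∈ C.map P.subtype, F x ∈ C.map P.subtype := by
    rintro C hC _ ⟨x, hx, rfl⟩
    exact ⟨_, hC x hx, rfl⟩
  have hA' : A.map P.subtype ≤ ⨆ μ : ℚ, slopePart F μ :=
    le_trans (le_slopePart (hst A hAs) (isoIn_map P.subtype (fun _ => rfl) hμ))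
      (le_iSup (fun ν : ℚ => slopePart F ν) μ)
  have hlt : Module.finrank (FractionRing (WittVector p k)) (B.map P.subtype) < n := by
    rw [Submodule.finrank_map_subtype_eq, ← hn]
    refine Submodule.finrank_lt fun hB => hA ?_
    have := hAB.inf_eq_bot
    rwa [hB, inf_top_eq] at this
  have hB' := ih _ hlt (B.map P.subtype) (hst B hBs) rfl
  calc P = (⊤ : Submodule (FractionRing (WittVector p k)) P).map P.subtype :=
        (Submodule.map_subtype_top P).symm
    _ = A.map P.subtype ⊔ B.map P.subtype := by rw [← hAB.sup_eq_top, Submodule.map_sup]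
    _ ≤ _ := sup_le hA' hB'

theorem iSup_slopePart (hF : IsIsoc F) : ⨆ μ : ℚ, slopePart F μ = ⊤ :=
  top_le_iff.mp (le_iSup_slopePart hF ⊤ fun _ _ => trivial)

theorem isInternal_slopePart (hF : IsIsoc F) :
    DirectSum.IsInternal fun μ : ℚ => slopePart F μ :=
  DirectSum.isInternal_submodule_of_iSupIndep_of_iSup_eq_top (iSupIndep_slopePart hF)
    (iSup_slopePart hF)

theorem finite_slopes (hF : IsIsoc F) : {μ : ℚ | slopePart F μ ≠ ⊥}.Finite :=
  haveI := hF.finite
  WellFoundedGT.finite_ne_bot_of_iSupIndep (iSupIndep_slopePart hF)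

/-- The decomposition indexed by the finite set of slopes. -/
theorem isInternal_slopes (hF : IsIsoc F) :
    DirectSum.IsInternal fun μ : (finite_slopes hF).toFinset => slopePart F μ.1 := by
  refine DirectSum.isInternal_submodule_of_iSupIndep_of_iSup_eq_top
    ((iSupIndep_slopePart hF).comp Subtype.val_injective) ?_
  rw [← top_le_iff, ← iSup_slopePart hF, iSup_le_iff]
  intro μ
  by_cases hμ : slopePart F μ = ⊥
  · simp [hμ]
  · exact le_iSup (fun ν : (finite_slopes hF).toFinset => slopePart F ν.1)
      ⟨μ, by simpa using hμ⟩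

/-- `orddet F` is the sum of the slopes counted with multiplicity. -/
theorem finsum_slope_mul (hF : IsIsoc F) {h : ℕ}
    (b : Module.Basis (Fin h) (FractionRing (WittVector p k)) N) {d : ℤ}
    (hd : IsOrdP (detCoeff b F) d) :
    ∑ᶠ μ : ℚ, μ * (newtonMult F μ : ℚ) = d := by
  classical
  haveI := hF.finite
  set S := (finite_slopes hF).toFinset
  have hst : ∀ μ, ∀ x ∈ slopePart F μ, F x ∈ slopePart F μ := fun μ => (slopePart_spec F μ).1
  let bi : ∀ μ : S, Module.Basis (Fin (newtonMult F μ.1)) (FractionRing (WittVector p k))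
      (slopePart F μ.1) := fun μ => Module.finBasis _ _
  choose di hdi using fun μ : S => exists_isOrdP_det (isIsoc_restrict hF (hst μ.1)) (bi μ)
  let B := (isInternal_slopes hF).collectedBasis bi
  have hmat : matF B F = Matrix.blockDiagonal' fun μ : S => matF (bi μ) (F.restrict (hst μ.1)) := by
    refine Matrix.ext fun a a' => ?_
    obtain ⟨i, x⟩ := a
    obtain ⟨j, y⟩ := a'
    simp only [matF, Matrix.of_apply]
    have hBy : B ⟨j, y⟩ = (bi j y : N) := by simp [B]
    rw [hBy]
    rcases eq_or_ne i j with rfl | hij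
    · rw [Matrix.blockDiagonal'_apply_eq,
        (isInternal_slopes hF).collectedBasis_repr_of_mem bi (hst _ _ (bi i y).2)]
      rfl
    · rw [Matrix.blockDiagonal'_apply_ne _ _ _ hij,
        (isInternal_slopes hF).collectedBasis_repr_of_mem_ne bi hij.symm (hst _ _ (bi j y).2)]
  have hord : IsOrdP (matF B F).det (∑ μ : S, di μ) := by
    rw [hmat, det_blockDiagonal']
    clear hmat
    induction (Finset.univ : Finset S) using Finset.induction_on with
    | empty => simpa using isOrdP_one
    | insert a s ha ih =>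
      rw [Finset.prod_insert ha, Finset.sum_insert ha]
      exact isOrdP_mul (hdi a) ih
  have hsum : ∑ μ : S, di μ = d := isOrdP_unique hord (isOrdP_det_basis b B hd)
  have hdi' : ∀ μ : S, (di μ : ℚ) = μ.1 * newtonMult F μ.1 := by
    intro μ
    obtain ⟨M, hM, r, s, hs, hrs, hFM⟩ :=
      (isIsoclinic_restrict_iff (hst μ.1)).mpr (slopePart_spec F μ.1).2
    have h1 : (r : ℚ) * newtonMult F μ.1 = s * di μ := by
      exact_mod_cast mul_eq_det (bi μ) (hdi μ) hM hFM
    have hs0 : ((s : ℕ) : ℚ) ≠ 0 := by exact_mod_cast hs.ne'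
    rw [div_eq_iff hs0] at hrs
    refine mul_left_cancel₀ hs0 ?_
    linear_combination -h1 + (newtonMult F μ.1 : ℚ) * hrs
  rw [finsum_eq_sum_of_support_subset _ (s := S) (fun μ hμ => by
    simp only [Function.mem_support, ne_eq, mul_eq_zero, not_or] at hμ
    simp only [S, Finset.mem_coe, Set.Finite.mem_toFinset, Set.mem_setOf_eq]
    exact fun h0 => hμ.2 (by simp [newtonMult, h0]))]
  rw [← hsum, Int.cast_sum, ← Finset.sum_coe_sort]
  exact Finset.sum_congr rfl fun μ _ => (hdi' μ).symm

end Groth.Agent.IsocLib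

end
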