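import Groth.Agent.IsocLib.Basic
import Mathlib.FieldTheory.Finite.Basic

/-!
# The twist over a finite field
-/

set_option autoImplicit false
set_option linter.unusedSectionVars false

noncomputable section

universe u

namespace Groth.Agent.IsocLib

variable {p : ℕ} [Fact p.Prime] {k : Type u} [Field k] [CharP k p] [PerfectRing k p]

theorem frobeniusEquiv_pow_apply (m : ℕ) (w : WittVector p k) :
    (WittVector.frobeniusEquiv p k ^ m) w = (WittVector.frobenius : WittVector p k →+* _)^[m] w := by
  induction m with
  | zero => rfl
  | succ m ih => rw [pow_succ', RingAut.mul_apply, ih, Function.iterate_succ_apply']; rfl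

theorem iterate_frob (a : ℤ) (m : ℕ) (w : WittVector p k) :
    (⇑(Isoc.frob p k a))^[m] (algebraMap _ (FractionRing (WittVector p k)) w) =
      algebraMap _ _ (((WittVector.frobeniusEquiv p k ^ a) ^ m) w) := by
  induction m with
  | zero => rfl
  | succ m ih =>
    rw [Function.iterate_succ_apply', ih, Isoc.frob_algebraMap, pow_succ', RingAut.mul_apply]

theorem iterate_frob_card [Fintype k] {m : ℕ} (hk : Fintype.card k = p ^ m) (a : ℤ)
    (c : FractionRing (WittVector p k)) : (⇑(Isoc.frob p k a))^[m] c = c := by
  have h1 : WittVector.frobeniusEquiv p k ^ m = 1 := by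
    refine RingEquiv.ext fun w => ?_
    rw [frobeniusEquiv_pow_apply]
    refine WittVector.ext fun n => ?_
    rw [WittVector.iterate_frobenius_coeff, ← hk, FiniteField.pow_card]
    rfl
  have h2 : (WittVector.frobeniusEquiv p k ^ a) ^ m = 1 := by
    rw [← zpow_natCast, ← zpow_mul, mul_comm, zpow_mul, zpow_natCast, h1, one_zpow]
  obtain ⟨x, y, hy, rfl⟩ := IsFractionRing.div_surjective (A := WittVector p k) c
  rw [← RingHom.coe_pow, map_div₀, RingHom.coe_pow, iterate_frob, iterate_frob, h2]
  rfl

theorem natCast_ne_zero {n : ℕ} (hn : n ≠ 0) : (n : FractionRing (WittVector p k)) ≠ 0 := by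
  haveI : CharZero (WittVector p k) := by
    haveI := ringChar.charP (WittVector p k)
    rcases CharP.char_is_prime_or_zero (WittVector p k) (ringChar (WittVector p k)) with hq | hq
    · exfalso
      have h : ((ringChar (WittVector p k) : ℕ) : k) = 0 := by
        rw [← map_natCast (WittVector.constantCoeff : WittVector p k →+* k), CharP.cast_eq_zero,
          map_zero]
      rw [CharP.cast_eq_zero_iff k p, Nat.prime_dvd_prime_iff_eq Fact.out hq] at h
      refine WittVector.p_nonzero p k ?_
      have h2 := CharP.cast_eq_zero (WittVector p k) (ringChar (WittVector p k))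
      rwa [← h] at h2
    · exact (CharP.charP_zero_iff_charZero _).mp (hq ▸ inferInstance)
  rw [← map_natCast (algebraMap (WittVector p k) (FractionRing (WittVector p k)))]
  exact fun h => hn (Nat.cast_eq_zero.mp
    (IsFractionRing.injective (WittVector p k) (FractionRing (WittVector p k)) (by rw [h, map_zero])))

end Groth.Agent.IsocLib

end
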