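import Groth.Agent.IsocLib.Basic
import Mathlib.LinearAlgebra.DFinsupp
import Mathlib.LinearAlgebra.Dimension.Constructions

/-!
# Isoclinic subspaces, morphisms between them, independence of the slope parts

`IsoIn F P μ`: the subspace `P` carries a lattice `M` with `F^s M = p^r M`, `r/s = μ`.
-/

set_option autoImplicit false
set_option linter.unusedSectionVars false

noncomputable section

open scoped Pointwise
open Isoc

universe u v w

namespace Groth.Agent.IsocLib

variable {p : ℕ} [Fact p.Prime] {k : Type u} [Field k] [CharP k p]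
variable {N : Type v} [AddCommGroup N] [Module (WittVector p k) N]
  [Module (FractionRing (WittVector p k)) N]
  [IsScalarTower (WittVector p k) (FractionRing (WittVector p k)) N]
variable {N' : Type w} [AddCommGroup N'] [Module (WittVector p k) N']
  [Module (FractionRing (WittVector p k)) N']
  [IsScalarTower (WittVector p k) (FractionRing (WittVector p k)) N']
variable {τ : FractionRing (WittVector p k) →+* FractionRing (WittVector p k)}

/-- The subspace `P` is isoclinic of slope `μ`, in the lattice form. -/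
def IsoIn (F : N →ₛₗ[τ] N) (P : Submodule (FractionRing (WittVector p k)) N) (μ : ℚ) : Prop :=
  ∃ M : Submodule (WittVector p k) N, M.FG ∧
    Submodule.span (FractionRing (WittVector p k)) (M : Set N) = P ∧
    ∃ (r : ℤ) (s : ℕ), 0 < s ∧ (r : ℚ) / s = μ ∧ latImg F s M = pPow r M

theorem isoIn_top_iff {F : N →ₛₗ[τ] N} {μ : ℚ} : IsoIn F ⊤ μ ↔ IsIsoclinic F μ :=
  ⟨fun ⟨M, hfg, hsp, h⟩ => ⟨M, ⟨hfg, hsp⟩, h⟩, fun ⟨M, hM, h⟩ => ⟨M, hM.fg, hM.span_eq_top, h⟩⟩

theorem isoIn_bot (F : N →ₛₗ[τ] N) (μ : ℚ) : IsoIn F ⊥ μ := by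
  refine ⟨⊥, Submodule.fg_bot, by simp, μ.num, μ.den, μ.den_pos, μ.num_div_den, ?_⟩
  rw [pPow_bot, latImg, Submodule.bot_coe, Set.image_singleton, iterate_map_zero,
    Submodule.span_zero_singleton]

theorem isoIn_subset {F : N →ₛₗ[τ] N} {P : Submodule (FractionRing (WittVector p k)) N}
    {M : Submodule (WittVector p k) N}
    (h : Submodule.span (FractionRing (WittVector p k)) (M : Set N) = P) :
    M ≤ P.restrictScalars (WittVector p k) := fun _ hx =>
  (h ▸ Submodule.subset_span hx : _ ∈ P)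

section Map

variable {F : N →ₛₗ[τ] N} {F' : N' →ₛₗ[τ] N'}
variable (f : N →ₗ[FractionRing (WittVector p k)] N')

theorem map_pPow (r : ℤ) (M : Submodule (WittVector p k) N) :
    (pPow r M).map (f.restrictScalars (WittVector p k)) =
      pPow r (M.map (f.restrictScalars (WittVector p k))) := by
  ext y
  simp only [Submodule.mem_map, mem_pPow, LinearMap.coe_restrictScalars]
  constructor
  · rintro ⟨x, hx, rfl⟩
    exact ⟨_, hx, f.map_smul _ x⟩
  · rintro ⟨x, hx, h⟩
    refine ⟨pi p k r • x, ?_, ?_⟩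
    · rwa [smul_smul, ← pi_add, neg_add_cancel, show pi p k 0 = 1 from zpow_zero _, one_smul]
    · rw [f.map_smul, h, smul_smul, ← pi_add, add_neg_cancel,
        show pi p k 0 = 1 from zpow_zero _, one_smul]

theorem map_latImg (hf : ∀ x, f (F x) = F' (f x)) (s : ℕ) (M : Submodule (WittVector p k) N) :
    (latImg F s M).map (f.restrictScalars (WittVector p k)) =
      latImg F' s (M.map (f.restrictScalars (WittVector p k))) := by
  rw [latImg, latImg, Submodule.map_span, Submodule.map_coe, Set.image_image, Set.image_image]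
  congr 1
  refine Set.image_congr fun x _ => ?_
  exact (Function.Semiconj.iterate_right hf s).eq x

theorem span_map_eq (M : Submodule (WittVector p k) N) :
    Submodule.span (FractionRing (WittVector p k))
        (M.map (f.restrictScalars (WittVector p k)) : Set N') =
      (Submodule.span (FractionRing (WittVector p k)) (M : Set N)).map f := by
  rw [Submodule.map_coe, Submodule.map_span]
  rfl

theorem isoIn_map (hf : ∀ x, f (F x) = F' (f x))
    {P : Submodule (FractionRing (WittVector p k)) N} {μ : ℚ} (h : IsoIn F P μ) :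
    IsoIn F' (P.map f) μ := by
  obtain ⟨M, hfg, rfl, r, s, hs, hμ, hM⟩ := h
  exact ⟨_, hfg.map _, span_map_eq f M, r, s, hs, hμ, by rw [← map_latImg f hf, hM, map_pPow]⟩

theorem isoIn_of_map (hf : ∀ x, f (F x) = F' (f x)) (hinj : Function.Injective f)
    {P : Submodule (FractionRing (WittVector p k)) N} {μ : ℚ} (h : IsoIn F' (P.map f) μ) :
    IsoIn F P μ := by
  obtain ⟨M', hfg, hsp, r, s, hs, hμ, hM⟩ := h
  have hinj' : Function.Injective (f.restrictScalars (WittVector p k)) := hinj
  have hM' : M' = (M'.comap (f.restrictScalars (WittVector p k))).map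
      (f.restrictScalars (WittVector p k)) := by
    rw [Submodule.map_comap_eq_self]
    intro y hy
    obtain ⟨x, -, hx⟩ := (hsp ▸ Submodule.subset_span hy : y ∈ P.map f)
    exact ⟨x, hx⟩
  rw [hM'] at hfg hsp hM
  rw [span_map_eq] at hsp
  rw [← map_latImg f hf, ← map_pPow] at hM
  exact ⟨_, Submodule.fg_of_fg_map_injective _ hinj' hfg,
    Submodule.map_injective_of_injective hinj hsp, r, s, hs, hμ,
    Submodule.map_injective_of_injective hinj' hM⟩

end Map

theorem isIsoclinic_restrict_iff {F : N →ₛₗ[τ] N}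
    {P : Submodule (FractionRing (WittVector p k)) N} (hP : ∀ x ∈ P, F x ∈ P) {μ : ℚ} :
    IsIsoclinic (F.restrict hP) μ ↔ IsoIn F P μ := by
  rw [← isoIn_top_iff]
  constructor
  · intro h
    have := isoIn_map P.subtype (F := F.restrict hP) (F' := F) (fun _ => rfl) h
    rwa [Submodule.map_subtype_top] at this
  · intro h
    refine isoIn_of_map P.subtype (F := F.restrict hP) (F' := F) (fun _ => rfl)
      P.injective_subtype ?_
    rwa [Submodule.map_subtype_top]

variable [Good τ] {F : N →ₛₗ[τ] N}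

/-- A bijective semilinear map carries a stable subspace onto itself. -/
theorem exists_preimage_mem (hF : IsIsoc F) {P : Submodule (FractionRing (WittVector p k)) N}
    (hP : ∀ x ∈ P, F x ∈ P) {y : N} (hy : y ∈ P) : ∃ x ∈ P, F x = y := by
  haveI := hF.finite
  let b := Module.finBasis (FractionRing (WittVector p k)) P
  let v : Fin (Module.finrank (FractionRing (WittVector p k)) P) → P :=
    fun i => ⟨F (b i), hP _ (b i).2⟩
  have hli : LinearIndependent (FractionRing (WittVector p k)) v := by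
    rw [Fintype.linearIndependent_iff]
    intro g hg i
    choose g' hg' using fun i => tau_surjective (τ := τ) (g i)
    have h0 : F (∑ i, g' i • (b i : N)) = 0 := by
      rw [map_sum]
      have h1 := congrArg (fun z : P => (z : N)) hg
      simp only [Submodule.coe_sum, Submodule.coe_smul, v, ZeroMemClass.coe_zero] at h1
      rw [← h1]
      exact Finset.sum_congr rfl fun i _ => by rw [map_smulₛₗ, hg']
    have h1 : ∑ i, g' i • b i = 0 := by
      apply Subtype.ext
      simp only [Submodule.coe_sum, Submodule.coe_smul, ZeroMemClass.coe_zero]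
      exact hF.bijective.injective (by rw [h0, map_zero])
    rw [← hg', Fintype.linearIndependent_iff.mp b.linearIndependent g' h1 i, map_zero]
  have hsp := hli.span_eq_top_of_card_eq_finrank' (by simp)
  obtain ⟨c, hc⟩ := (Submodule.mem_span_range_iff_exists_fun _).mp
    (hsp.ge (Submodule.mem_top (x := (⟨y, hy⟩ : P))))
  choose c' hc' using fun i => tau_surjective (τ := τ) (c i)
  refine ⟨∑ i, c' i • (b i : N), Submodule.sum_mem _ fun i _ => P.smul_mem _ (b i).2, ?_⟩
  have h1 := congrArg (fun z : P => (z : N)) hc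
  simp only [Submodule.coe_sum, Submodule.coe_smul, v] at h1
  rw [map_sum, ← h1]
  exact Finset.sum_congr rfl fun i _ => by rw [map_smulₛₗ, hc']

theorem iterate_mem {P : Submodule (FractionRing (WittVector p k)) N}
    (hP : ∀ x ∈ P, F x ∈ P) (s : ℕ) {x : N} (hx : x ∈ P) : (⇑F)^[s] x ∈ P := by
  induction s generalizing x with
  | zero => exact hx
  | succ s ih => rw [Function.iterate_succ_apply]; exact ih (hP x hx)

theorem exists_preimage_iterate_mem (hF : IsIsoc F)
    {P : Submodule (FractionRing (WittVector p k)) N}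
    (hP : ∀ x ∈ P, F x ∈ P) (s : ℕ) {y : N} (hy : y ∈ P) : ∃ x ∈ P, (⇑F)^[s] x = y := by
  induction s generalizing y with
  | zero => exact ⟨y, hy, rfl⟩
  | succ s ih =>
    obtain ⟨z, hz, rfl⟩ := exists_preimage_mem hF hP hy
    obtain ⟨x, hx, rfl⟩ := ih hz
    exact ⟨x, hx, Function.iterate_succ_apply' _ _ _⟩

theorem isIsoc_restrict (hF : IsIsoc F) {P : Submodule (FractionRing (WittVector p k)) N}
    (hP : ∀ x ∈ P, F x ∈ P) : IsIsoc (F.restrict hP) := by
  haveI := hF.finite
  refine ⟨inferInstance, fun x y h => ?_, fun y => ?_⟩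
  · exact Subtype.ext (hF.bijective.injective (congrArg Subtype.val h))
  · obtain ⟨x, hx, h⟩ := exists_preimage_mem hF hP y.2
    exact ⟨⟨x, hx⟩, Subtype.ext h⟩

theorem isoIn_stable (hF : IsIsoc F) {Q : Submodule (FractionRing (WittVector p k)) N}
    {P : Submodule (FractionRing (WittVector p k)) N} (hP : ∀ x ∈ P, F x ∈ P) (hle : P ≤ Q)
    {μ : ℚ} [PerfectRing k p] (h : IsoIn F Q μ) : IsoIn F P μ := by
  obtain ⟨M, hfg, hsp, r, s, hs, hμ, hM⟩ := h
  have hfg' : (M ⊓ P.restrictScalars (WittVector p k)).FG := by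
    haveI := Module.Finite.iff_fg.mpr hfg
    haveI : IsNoetherian (WittVector p k) M := isNoetherian_of_isNoetherianRing_of_finite _ _
    haveI : IsNoetherian (WittVector p k) ↥(M ⊓ P.restrictScalars (WittVector p k)) :=
      isNoetherian_of_le inf_le_left
    exact Module.Finite.iff_fg.mp inferInstance
  refine ⟨M ⊓ P.restrictScalars (WittVector p k), hfg', le_antisymm ?_ ?_, r, s, hs, hμ,
    le_antisymm ?_ ?_⟩
  · exact Submodule.span_le.mpr fun x hx => hx.2
  · intro x hx
    obtain ⟨c, hc⟩ := exists_pi_smul_mem (M := M) (x := x) (hsp.symm ▸ hle hx)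
    rw [mem_pPow, neg_neg] at hc
    have h2 : pi p k (c : ℤ) • x ∈ M ⊓ P.restrictScalars (WittVector p k) :=
      ⟨hc, P.smul_mem _ hx⟩
    have h3 := Submodule.smul_mem _ (pi p k (-(c : ℤ)))
      (Submodule.subset_span (R := FractionRing (WittVector p k)) h2)
    rwa [smul_smul, ← pi_add, neg_add_cancel, show pi p k 0 = 1 from zpow_zero _, one_smul] at h3
  · rw [latImg_le_iff]
    intro x hx
    exact mem_pPow.mpr ⟨mem_pPow.mp (hM ▸ iterate_mem_latImg hx.1),
      P.smul_mem _ (iterate_mem hP s hx.2)⟩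
  · intro y hy
    rw [mem_pPow] at hy
    have h1 : y ∈ latImg F s M := hM ▸ mem_pPow.mpr hy.1
    have h2 : y ∈ P := by
      have := P.smul_mem (pi p k r) hy.2
      rwa [smul_smul, ← pi_add, add_neg_cancel, show pi p k 0 = 1 from zpow_zero _, one_smul] at this
    obtain ⟨x, hx, rfl⟩ := mem_latImg.mp h1
    obtain ⟨x', hx', he⟩ := exists_preimage_iterate_mem hF hP s h2
    obtain rfl : x' = x := (hF.bijective.injective.iterate s) he
    exact iterate_mem_latImg ⟨hx, hx'⟩

theorem isoIn_sup {P Q : Submodule (FractionRing (WittVector p k)) N} {μ : ℚ}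
    (hP : IsoIn F P μ) (hQ : IsoIn F Q μ) : IsoIn F (P ⊔ Q) μ := by
  obtain ⟨M, hfg, rfl, r, s, hs, hμ, hM⟩ := hP
  obtain ⟨M', hfg', rfl, r', s', hs', hμ', hM'⟩ := hQ
  refine ⟨M ⊔ M', hfg.sup hfg', ?_, r * s', s * s', Nat.mul_pos hs hs', ?_, ?_⟩
  · rw [← Submodule.span_union]
    refine le_antisymm (Submodule.span_le.mpr fun x hx => ?_) (Submodule.span_mono ?_)
    · obtain ⟨a, ha, b, hb, rfl⟩ := Submodule.mem_sup.mp hx
      exact add_mem (Submodule.subset_span (Or.inl ha)) (Submodule.subset_span (Or.inr hb))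
    · exact Set.union_subset (SetLike.coe_subset_coe.mpr le_sup_left)
        (SetLike.coe_subset_coe.mpr le_sup_right)
  · rw [← hμ]
    push_cast
    exact mul_div_mul_right _ _ (by exact_mod_cast hs'.ne')
  · rw [latImg_sup, latImg_mul_eq hM, mul_comm s s', latImg_mul_eq hM', pPow_sup]
    have : r' * (s : ℤ) = r * (s' : ℤ) := by
      rw [← hμ', div_eq_div_iff (by exact_mod_cast hs.ne') (by exact_mod_cast hs'.ne')] at hμ
      exact_mod_cast hμ.symm
    rw [this]

theorem slopePart_eq_sSup (F : N →ₛₗ[τ] N) (μ : ℚ) :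
    slopePart F μ = sSup {P : Submodule (FractionRing (WittVector p k)) N |
      (∀ x ∈ P, F x ∈ P) ∧ IsoIn F P μ} := by
  rw [slopePart]
  congr 1
  ext P
  exact ⟨fun ⟨hP, h⟩ => ⟨hP, (isIsoclinic_restrict_iff hP).mp h⟩,
    fun ⟨hP, h⟩ => ⟨hP, (isIsoclinic_restrict_iff hP).mpr h⟩⟩

theorem slopePart_spec [Module.Finite (FractionRing (WittVector p k)) N] (F : N →ₛₗ[τ] N)
    (μ : ℚ) : (∀ x ∈ slopePart F μ, F x ∈ slopePart F μ) ∧ IsoIn F (slopePart F μ) μ := by
  rw [slopePart_eq_sSup]
  set S := {P : Submodule (FractionRing (WittVector p k)) N |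
    (∀ x ∈ P, F x ∈ P) ∧ IsoIn F P μ} with hS
  have hne : S.Nonempty := ⟨⊥, by simp, isoIn_bot F μ⟩
  have hsup : ∀ {P Q}, P ∈ S → Q ∈ S → P ⊔ Q ∈ S := by
    intro P Q hP hQ
    refine ⟨fun x hx => ?_, isoIn_sup hP.2 hQ.2⟩
    obtain ⟨a, ha, b, hb, rfl⟩ := Submodule.mem_sup.mp hx
    rw [map_add]
    exact Submodule.add_mem_sup (hP.1 a ha) (hQ.1 b hb)
  obtain ⟨Q, hQ, hmax⟩ := wellFounded_gt.has_min S hne
  have : sSup S = Q := by
    refine le_antisymm (sSup_le fun P hP => ?_) (le_sSup hQ)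
    have h1 := hmax (P ⊔ Q) (hsup hP hQ)
    have h2 : P ⊔ Q = Q := by
      by_contra h
      exact h1 (lt_of_le_of_ne le_sup_right (Ne.symm h))
    exact h2 ▸ le_sup_left
  rw [this]
  exact hQ

theorem le_slopePart {P : Submodule (FractionRing (WittVector p k)) N}
    (hP : ∀ x ∈ P, F x ∈ P) {μ : ℚ} (h : IsoIn F P μ) : P ≤ slopePart F μ := by
  rw [slopePart_eq_sSup]
  exact le_sSup ⟨hP, h⟩

/-! ### Contracted vectors -/

variable [PerfectRing k p]

variable (F) in
/-- Vectors `x` with `p^{-rn} F^{sn} x → 0` along sufficiently divisible `n`. -/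
def contr (M : Submodule (WittVector p k) N) (r : ℤ) (s : ℕ) :
    Submodule (FractionRing (WittVector p k)) N where
  carrier := {x | ∀ m : ℕ, ∃ T : ℕ, 0 < T ∧ ∀ t : ℕ, 0 < t →
    (⇑F)^[s * (T * t)] x ∈ pPow (r * (T * t : ℕ) + m) M}
  zero_mem' m := ⟨1, one_pos, fun t _ => by rw [iterate_map_zero]; exact zero_mem _⟩
  add_mem' {x y} hx hy m := by
    obtain ⟨T, hT, hTx⟩ := hx m
    obtain ⟨T', hT', hTy⟩ := hy m
    refine ⟨T * T', Nat.mul_pos hT hT', fun t ht => ?_⟩
    rw [iterate_map_add]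
    refine add_mem ?_ ?_
    · rw [mul_assoc T T' t]; exact hTx _ (Nat.mul_pos hT' ht)
    · rw [mul_comm T T', mul_assoc T' T t]; exact hTy _ (Nat.mul_pos hT ht)
  smul_mem' c x hx m := by
    by_cases hc : c = 0
    · exact ⟨1, one_pos, fun t _ => by rw [hc, zero_smul, iterate_map_zero]; exact zero_mem _⟩
    obtain ⟨e, u, rfl⟩ := exists_isOrdP hc
    obtain ⟨T, hT, hTx⟩ := hx (((m : ℤ) - e).toNat)
    refine ⟨T, hT, fun t ht => ?_⟩
    rw [mul_smul, iterate_smul_pi, algebraMap_smul, iterate_wsmul, mem_pPow, smul_smul, ← pi_add,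
      smul_comm]
    refine M.smul_mem _ ?_
    have h1 := pPow_anti (r := r * (T * t : ℕ) + (m : ℤ) - e) (by omega) M (hTx t ht)
    rw [mem_pPow] at h1
    convert h1 using 3
    ring

/-- A piece of larger slope is contracted. -/
theorem le_contr {M : Submodule (WittVector p k) N}
    (hM : M.IsLattice (FractionRing (WittVector p k)))
    {P : Submodule (FractionRing (WittVector p k)) N} {ν : ℚ} (hP : IsoIn F P ν)
    {r : ℤ} {s : ℕ} (hs : 0 < s) (hlt : (r : ℚ) / s < ν) : P ≤ contr F M r s := by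
  obtain ⟨M₀, hfg, rfl, r₁, s₁, hs₁, rfl, hM₀⟩ := hP
  rw [Submodule.span_le]
  intro x hx m
  obtain ⟨c, hc⟩ := exists_le_pPow_lattice hM hfg
  refine ⟨s₁ * (m + c + 1), by positivity, fun t ht => ?_⟩
  have h1 : (⇑F)^[s * (s₁ * (m + c + 1) * t)] x ∈
      pPow (r₁ * (s * (m + c + 1) * t : ℕ)) M₀ := by
    rw [← latImg_mul_eq hM₀, show s * (s₁ * (m + c + 1) * t) = s₁ * (s * (m + c + 1) * t) by ring]
    exact iterate_mem_latImg hx
  have h2 := pPow_mono _ hc h1
  rw [pPow_add] at h2
  refine pPow_anti ?_ M h2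
  have h3 : r * s₁ + 1 ≤ r₁ * s := by
    rw [div_lt_div_iff₀ (by exact_mod_cast hs) (by exact_mod_cast hs₁)] at hlt
    have : r * (s₁ : ℤ) < r₁ * s := by exact_mod_cast hlt
    omega
  have h4 : (r * s₁ + 1) * ((m + c + 1) * t : ℤ) ≤ r₁ * s * ((m + c + 1) * t : ℤ) :=
    mul_le_mul_of_nonneg_right h3 (by positivity)
  have h5 : ((m : ℤ) + c + 1) * 1 ≤ ((m : ℤ) + c + 1) * t :=
    mul_le_mul_of_nonneg_left (by omega) (by positivity)
  push_cast
  linarith

/-- A piece of exactly that slope has no non-zero contracted vector. -/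
theorem contr_inf_eq_bot (hF : IsIsoc F) {M : Submodule (WittVector p k) N}
    (hM : M.IsLattice (FractionRing (WittVector p k)))
    {M₀ : Submodule (WittVector p k) N} (hfg : M₀.FG) {r : ℤ} {s : ℕ}
    (hM₀ : latImg F s M₀ = pPow r M₀) :
    Submodule.span (FractionRing (WittVector p k)) (M₀ : Set N) ⊓ contr F M r s = ⊥ := by
  rw [eq_bot_iff]
  rintro x ⟨hx, hxc⟩
  rw [Submodule.mem_bot]
  set P := Submodule.span (FractionRing (WittVector p k)) (M₀ : Set N)
  have hfg' : (M ⊓ P.restrictScalars (WittVector p k)).FG := by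
    haveI := Module.Finite.iff_fg.mpr hM.fg
    haveI : IsNoetherian (WittVector p k) M := isNoetherian_of_isNoetherianRing_of_finite _ _
    haveI : IsNoetherian (WittVector p k) ↥(M ⊓ P.restrictScalars (WittVector p k)) :=
      isNoetherian_of_le inf_le_left
    exact Module.Finite.iff_fg.mp inferInstance
  obtain ⟨c, hc⟩ := exists_le_pPow (M := M₀) hfg' (fun y hy => hy.2)
  obtain ⟨c', hc'⟩ := exists_le_pPow_lattice hM hfg
  obtain ⟨e, he⟩ := exists_pi_smul_mem (M := M₀) hx
  refine eq_zero_of_forall_mem hM fun n => ?_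
  obtain ⟨T, hT, hTx⟩ := hxc (n + c + c')
  have h1 := hTx 1 one_pos
  simp only [mul_one] at h1
  have hP' : (⇑F)^[s * T] x ∈ P := by
    have h2 : (⇑F)^[s * T] x ∈ latImg F (s * T) (pPow (-(e : ℤ)) M₀) := iterate_mem_latImg he
    rw [latImg_pPow, latImg_mul_eq hM₀, pPow_add, mem_pPow] at h2
    have h3 := P.smul_mem (pi p k (-(e : ℤ) + r * (T : ℤ))) (Submodule.subset_span h2)
    rwa [smul_smul, ← pi_add, add_neg_cancel, show pi p k 0 = 1 from zpow_zero _, one_smul] at h3
  have h4 : (⇑F)^[s * T] x ∈ pPow (r * (T : ℤ) + (n + c + c' : ℕ))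
      (M ⊓ P.restrictScalars (WittVector p k)) := by
    rw [mem_pPow] at h1 ⊢
    exact ⟨h1, P.smul_mem _ hP'⟩
  have h5 := pPow_mono _ hc h4
  rw [pPow_add, add_assoc, add_comm (r * (T : ℤ)), ← pPow_add, ← latImg_mul_eq hM₀,
    ← latImg_pPow] at h5
  obtain ⟨y, hy, hyx⟩ := mem_latImg.mp h5
  obtain rfl : y = x := (hF.bijective.injective.iterate _) hyx
  have h6 := pPow_mono _ hc' hy
  rw [pPow_add] at h6
  exact pPow_anti (by push_cast; omega) M h6

/-- A subspace isoclinic of two different slopes is zero. -/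
theorem isoIn_unique (hF : IsIsoc F) {M : Submodule (WittVector p k) N}
    (hM : M.IsLattice (FractionRing (WittVector p k)))
    {P Q : Submodule (FractionRing (WittVector p k)) N} {μ ν : ℚ}
    (hP : IsoIn F P μ) (hQ : IsoIn F Q ν) (hne : μ ≠ ν) : P ⊓ Q = ⊥ := by
  wlog hlt : μ < ν generalizing P Q μ ν with H
  · rw [inf_comm]; exact H hQ hP hne.symm (lt_of_le_of_ne (not_lt.mp hlt) hne.symm)
  obtain ⟨M₀, hfg, rfl, r, s, hs, rfl, hM₀⟩ := hP
  rw [eq_bot_iff, ← contr_inf_eq_bot hF hM hfg hM₀]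
  exact inf_le_inf_left _ (le_contr hM hQ hs hlt)

omit [PerfectRing k p] in
theorem exists_lattice [Module.Finite (FractionRing (WittVector p k)) N] :
    ∃ M : Submodule (WittVector p k) N, M.IsLattice (FractionRing (WittVector p k)) := by
  let b := Module.finBasis (FractionRing (WittVector p k)) N
  refine ⟨Submodule.span (WittVector p k) (Set.range b), Submodule.fg_span (Set.finite_range b), ?_⟩
  rw [Submodule.span_span_of_tower, b.span_eq]

theorem iSupIndep_slopePart (hF : IsIsoc F) : iSupIndep fun μ : ℚ => slopePart F μ := by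
  classical
  haveI := hF.finite
  obtain ⟨M, hM⟩ := exists_lattice (p := p) (k := k) (N := N)
  rw [iSupIndep_iff_finsetSum_eq_zero_imp_eq_zero]
  intro S
  induction S using Finset.induction_on_min with
  | empty => simp
  | insert μ S hlt ih =>
    intro v hv hsum
    rw [Finset.sum_insert (fun h => lt_irrefl _ (hlt μ h))] at hsum
    have h0 : v μ = 0 := by
      obtain ⟨M₀, hfg, hsp, r, s, hs, rfl, hM₀⟩ := (slopePart_spec F μ).2
      have : v ((r : ℚ) / s) ∈
          Submodule.span (FractionRing (WittVector p k)) (M₀ : Set N) ⊓ contr F M r s := by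
        refine ⟨hsp ▸ hv _ (Finset.mem_insert_self _ _), ?_⟩
        rw [eq_neg_of_add_eq_zero_left hsum]
        exact neg_mem (Submodule.sum_mem _ fun ν hν =>
          le_contr hM (slopePart_spec F ν).2 hs (hlt ν hν) (hv ν (Finset.mem_insert_of_mem hν)))
      rwa [contr_inf_eq_bot hF hM hfg hM₀, Submodule.mem_bot] at this
    rw [h0, zero_add] at hsum
    intro ν hν
    rcases Finset.mem_insert.mp hν with rfl | hν'
    · exact h0
    · exact ih v (fun i hi => hv i (Finset.mem_insert_of_mem hi)) hsum ν hν'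

end Groth.Agent.IsocLib

end
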