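import Groth.Agent.IsocLib.Chain
import Groth.Agent.IsocLib.Pieces
import Mathlib.RingTheory.AdicCompletion.Basic

/-!
# Fitting decomposition of a semilinear endomorphism of a lattice

For `G M ⊆ M`: the unit-root part `⋂ G^n M` and the contracted vectors span everything.
-/

set_option autoImplicit false
set_option linter.unusedSectionVars false

noncomputable section

open scoped Pointwise
open Isoc

universe u v

namespace Groth.Agent.IsocLib

variable {p : ℕ} [Fact p.Prime] {k : Type u} [Field k] [CharP k p] [PerfectRing k p]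
variable {N : Type v} [AddCommGroup N] [Module (WittVector p k) N]
  [Module (FractionRing (WittVector p k)) N]
  [IsScalarTower (WittVector p k) (FractionRing (WittVector p k)) N]
variable {τ : FractionRing (WittVector p k) →+* FractionRing (WittVector p k)}

/-- Cauchy sequences in a lattice converge. -/
theorem exists_limit {M : Submodule (WittVector p k) N}
    (hM : M.IsLattice (FractionRing (WittVector p k))) (f : ℕ → N)
    (hf : ∀ l : ℕ, f (l + 1) - f l ∈ pPow (l : ℤ) M) :
    ∃ z, ∀ l : ℕ, z - f l ∈ pPow (l : ℤ) M := by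
  set b := latBasis hM
  have : ∀ (l : ℕ) i, ∃ w : WittVector p k, algebraMap _ (FractionRing (WittVector p k)) w =
      b.repr (pi p k (-(l : ℤ)) • (f (l + 1) - f l)) i := fun l i =>
    (mem_lattice_iff hM).mp (mem_pPow.mp (hf l)) i
  choose w hw using this
  let S : ℕ → _ → WittVector p k := fun l i => ∑ j ∈ Finset.range l, (p : WittVector p k) ^ j * w j i
  have hdvd : ∀ {m n}, m ≤ n → ∀ i, (p : WittVector p k) ^ m ∣ S n i - S m i := by
    intro m n hmn i
    simp only [S]
    rw [Finset.sum_range_sub_sum_range hmn]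
    exact Finset.dvd_sum fun j hj => Dvd.dvd.mul_right (pow_dvd_pow _ (Finset.mem_filter.mp hj).2) _
  have hlim : ∀ i, ∃ x : WittVector p k, ∀ n, (p : WittVector p k) ^ n ∣ x - S n i := by
    intro i
    obtain ⟨x, hx⟩ := IsPrecomplete.prec (I := Ideal.span {(p : WittVector p k)})
      (M := WittVector p k) inferInstance (f := fun n => S n i) (fun {m n} hmn => by
        rw [SModEq.sub_mem, smul_eq_mul, Ideal.mul_top, Ideal.span_singleton_pow,
          Ideal.mem_span_singleton, ← neg_sub, dvd_neg]
        exact hdvd hmn i)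
    refine ⟨x, fun n => ?_⟩
    have := hx n
    rwa [SModEq.sub_mem, smul_eq_mul, Ideal.mul_top, Ideal.span_singleton_pow,
      Ideal.mem_span_singleton, ← neg_sub, dvd_neg] at this
  choose x hx using hlim
  refine ⟨f 0 + ∑ i, x i • b i, fun l => ?_⟩
  have hfl : f l = f 0 + ∑ i, S l i • b i := by
    induction l with
    | zero => simp [S]
    | succ l ih =>
      have h1 : f (l + 1) - f l = ∑ i, ((p : WittVector p k) ^ l * w l i) • b i := by
        have h2 := congrArg (fun z => pi p k (l : ℤ) • z)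
          (b.sum_repr (pi p k (-(l : ℤ)) • (f (l + 1) - f l)))
        simp only [smul_smul, ← pi_add, add_neg_cancel, Finset.smul_sum] at h2
        rw [show pi p k 0 = 1 from zpow_zero _, one_smul] at h2
        rw [← h2]
        refine Finset.sum_congr rfl fun i _ => ?_
        rw [← hw, pi_natCast, ← map_mul, algebraMap_smul]
      rw [sub_eq_iff_eq_add.mp h1, ih]
      simp only [S, Finset.sum_range_succ, add_smul, Finset.sum_add_distrib]
      abel
  rw [hfl, add_sub_add_left_eq_sub, ← Finset.sum_sub_distrib]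
  refine Submodule.sum_mem _ fun i _ => ?_
  obtain ⟨y, hy⟩ := hx i l
  rw [← sub_smul, hy, mul_smul, ← algebraMap_smul (FractionRing (WittVector p k)) ((p : WittVector p k) ^ l),
    ← pi_natCast]
  exact smul_mem_pPow (M.smul_mem _ (latBasis_mem hM i))

/-- Lattices are closed. -/
theorem mem_of_forall_mem_sup {A M : Submodule (WittVector p k) N}
    (hA : A.IsLattice (FractionRing (WittVector p k))) (hM : M.FG) {z : N}
    (h : ∀ l : ℕ, z ∈ A ⊔ pPow (l : ℤ) M) : z ∈ A := by
  obtain ⟨c, hc⟩ := exists_le_pPow_lattice hA hM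
  refine (sup_le le_rfl ?_ : A ⊔ pPow (c : ℤ) M ≤ A) (h c)
  rwa [pPow_le_iff]

variable [Good τ] {G : N →ₛₗ[τ] N} {M : Submodule (WittVector p k) N}

variable (G M) in
/-- The unit-root part `⋂ G^n M`. -/
def uroot : Submodule (WittVector p k) N := ⨅ n : ℕ, latImg G n M

theorem uroot_le : uroot G M ≤ M := (iInf_le _ 0).trans (latImg_zero G M).le

theorem uroot_fg (hM : M.IsLattice (FractionRing (WittVector p k))) : (uroot G M).FG := by
  haveI := Module.Finite.iff_fg.mpr hM.fg
  haveI : IsNoetherian (WittVector p k) M := isNoetherian_of_isNoetherianRing_of_finite _ _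
  haveI : IsNoetherian (WittVector p k) ↥(uroot G M) := isNoetherian_of_le uroot_le
  exact Module.Finite.iff_fg.mp inferInstance

theorem latImg_anti (hGM : latImg G 1 M ≤ M) {m n : ℕ} (h : m ≤ n) :
    latImg G n M ≤ latImg G m M := by
  induction n, h using Nat.le_induction with
  | base => exact le_rfl
  | succ n hn ih =>
    rw [← latImg_latImg]
    exact (latImg_mono _ _ hGM).trans ih

theorem latImg_le_self (hGM : latImg G 1 M ≤ M) (n : ℕ) : latImg G n M ≤ M :=
  (latImg_anti hGM (Nat.zero_le n)).trans (latImg_zero G M).le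

theorem exists_stable (hG : IsIsoc G) (hM : M.IsLattice (FractionRing (WittVector p k)))
    (hGM : latImg G 1 M ≤ M) :
    ∃ n₀ : ℕ, 0 < n₀ ∧ ∀ m n : ℕ, latImg G (m * n₀) M ≤ latImg G n M ⊔ pPow (m : ℤ) M := by
  classical
  haveI := hG.finite
  set h := Module.finrank (FractionRing (WittVector p k)) N
  let S : ℕ → Submodule (WittVector p k) N := fun n => latImg G n M ⊔ pPow 1 M
  have hS : ∀ {m n}, m ≤ n → S n ≤ S m := fun hmn => sup_le_sup_right (latImg_anti hGM hmn) _
  obtain ⟨n₁, hn₁⟩ : ∃ n, S (n + 1) = S n := by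
    by_contra hc
    push Not at hc
    have := card_jumps_le (fun j : ℤ => S j.toNat) (fun a b hab => hS (by omega)) (h + 1)
      ((pPow_mono _ (sup_le (latImg_le_self hGM _) (pPow_le_self zero_le_one M))).trans le_sup_right)
      ((Finset.range (h + 1)).image (Nat.cast : ℕ → ℤ)) (fun j hj => by
        obtain ⟨n, hn, rfl⟩ := Finset.mem_image.mp hj
        rw [Finset.mem_range] at hn
        refine ⟨by omega, by omega, ?_⟩
        simpa [show ((n : ℤ) + 1).toNat = n + 1 by omega] using hc n)
    rw [Finset.card_image_of_injective _ Nat.cast_injective, Finset.card_range] at this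
    omega
  have hstep : ∀ n, S (n + 1) = latImg G 1 (S n) ⊔ pPow 1 M := fun n => by
    simp only [S]
    rw [latImg_sup, latImg_latImg, latImg_pPow, sup_assoc, add_comm 1 n,
      sup_eq_right.mpr (pPow_mono 1 hGM)]
  have hst : ∀ i, S (n₁ + i) = S n₁ := by
    intro i
    induction i with
    | zero => rfl
    | succ i ih => rw [← add_assoc, hstep, ih, ← hstep, hn₁]
  refine ⟨n₁ + 1, Nat.succ_pos _, fun m => ?_⟩
  induction m with
  | zero => intro n; rw [zero_mul, latImg_zero]; simp [pPow_zero]
  | succ m ih =>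
    intro n
    have h1 : ∀ n, latImg G (n₁ + 1) M ≤ latImg G n M ⊔ pPow 1 M := fun n => by
      rcases le_total n (n₁ + 1) with hle | hle
      · exact le_sup_of_le_left (latImg_anti hGM hle)
      · refine le_sup_left.trans (le_of_eq ?_ : S (n₁ + 1) ≤ S n)
        rw [show n = n₁ + (n - n₁) by omega, hst, hst]
    calc latImg G ((m + 1) * (n₁ + 1)) M
        = latImg G (n₁ + 1) (latImg G (m * (n₁ + 1)) M) := by rw [latImg_latImg]; ring_nf
      _ ≤ latImg G (n₁ + 1) (latImg G n M ⊔ pPow (m : ℤ) M) := latImg_mono _ _ (ih n)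
      _ = latImg G (n₁ + 1 + n) M ⊔ pPow (m : ℤ) (latImg G (n₁ + 1) M) := by
          rw [latImg_sup, latImg_latImg, latImg_pPow]
      _ ≤ latImg G n M ⊔ pPow (m : ℤ) (latImg G n M ⊔ pPow 1 M) :=
          sup_le_sup (latImg_anti hGM (by omega)) (pPow_mono _ (h1 n))
      _ ≤ _ := by
          rw [pPow_sup, pPow_add]
          refine sup_le le_sup_left (sup_le ?_ ?_)
          · exact le_sup_of_le_left (pPow_le_self (Int.natCast_nonneg m) _)
          · exact le_sup_of_le_right (by push_cast; rfl)

theorem latImg_le_uroot_sup (hG : IsIsoc G) (hM : M.IsLattice (FractionRing (WittVector p k)))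
    (hGM : latImg G 1 M ≤ M) :
    ∃ n₀ : ℕ, 0 < n₀ ∧ ∀ m : ℕ, latImg G (m * n₀) M ≤ uroot G M ⊔ pPow (m : ℤ) M := by
  obtain ⟨n₀, hn₀, hst⟩ := exists_stable hG hM hGM
  refine ⟨n₀, hn₀, fun m y hy => ?_⟩
  let A : ℕ → Submodule (WittVector p k) N := fun l => latImg G (l * n₀) M ⊔ pPow (l : ℤ) M
  have hA : ∀ l n, A l ≤ latImg G n M ⊔ pPow (l : ℤ) M := fun l n =>
    sup_le (hst l n) le_sup_right
  have hAnext : ∀ (l : ℕ) z, z ∈ A l → ∃ z', z' ∈ A (l + 1) ∧ z' - z ∈ pPow (l : ℤ) M := by
    intro l z hz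
    obtain ⟨a, ha, b, hb, rfl⟩ := Submodule.mem_sup.mp (hA l ((l + 1) * n₀) hz)
    exact ⟨a, Submodule.mem_sup_left ha, by rw [sub_add_cancel_left]; exact neg_mem hb⟩
  choose nx hnx1 hnx2 using hAnext
  let z : (j : ℕ) → {x // x ∈ A (m + j)} := fun j =>
    Nat.rec (motive := fun j => {x // x ∈ A (m + j)}) ⟨y, Submodule.mem_sup_left hy⟩
      (fun j w => ⟨nx (m + j) w.1 w.2, hnx1 _ _ _⟩) j
  have hz : ∀ j : ℕ, ((z (j + 1)).1 - (z j).1) ∈ pPow (j : ℤ) (pPow (m : ℤ) M) := fun j => by
    rw [pPow_add, add_comm]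
    have := hnx2 (m + j) (z j).1 (z j).2
    push_cast at this
    exact this
  obtain ⟨u, hu⟩ := exists_limit (isLattice_pPow (m : ℤ) hM) (fun j => (z j).1) hz
  have hu0 := hu 0
  rw [pPow_add, Nat.cast_zero, zero_add] at hu0
  refine Submodule.mem_sup.mpr ⟨u, ?_, y - u, ?_, by abel⟩
  · rw [uroot, Submodule.mem_iInf]
    intro n
    refine mem_of_forall_mem_sup (isLattice_latImg hG n hM) hM.fg fun l => ?_
    have h1 : u - (z l).1 ∈ pPow (l : ℤ) M := by
      have h2 := hu l
      rw [pPow_add] at h2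
      exact pPow_anti (by omega) M h2
    have h2 : (z l).1 ∈ latImg G n M ⊔ pPow (l : ℤ) M :=
      sup_le_sup_left (pPow_anti (by omega) M) _ (hA (m + l) n (z l).2)
    have := add_mem (Submodule.mem_sup_right (S := latImg G n M) h1) h2
    rwa [sub_add_cancel] at this
  · rw [← neg_sub]
    exact neg_mem hu0

theorem latImg_uroot (hG : IsIsoc G) (hGM : latImg G 1 M ≤ M) :
    latImg G 1 (uroot G M) = uroot G M := by
  refine le_antisymm (le_iInf fun n => ?_) fun y hy => ?_
  · refine (latImg_mono _ _ (iInf_le _ n)).trans ?_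
    rw [latImg_latImg]
    exact latImg_anti hGM (by omega)
  · rw [uroot, Submodule.mem_iInf] at hy
    obtain ⟨x, -, rfl⟩ := mem_latImg.mp (hy 1)
    refine iterate_mem_latImg ?_
    rw [uroot, Submodule.mem_iInf]
    intro n
    have h1 := hy (1 + n)
    rw [← latImg_latImg] at h1
    obtain ⟨x', hx', he⟩ := mem_latImg.mp h1
    obtain rfl : x' = x := (hG.bijective.injective.iterate 1) he
    exact hx'

theorem latImg_eq_of_eq (hG : IsIsoc G) {A B : Submodule (WittVector p k) N}
    (hA : A.IsLattice (FractionRing (WittVector p k))) (hAG : latImg G 1 A = A)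
    (hB : B.IsLattice (FractionRing (WittVector p k))) (hBG : latImg G 1 B ≤ B) :
    latImg G 1 B = B := by
  haveI := hG.finite
  let b := Module.finBasis (FractionRing (WittVector p k)) N
  obtain ⟨d, hd⟩ := exists_isOrdP_det hG b
  have h0 := mul_eq_det b hd hA (r := 0) (s := 1) (by rw [pPow_zero, hAG])
  have h1 := eq_of_det b hd hB (r := 0) (s := 1) (by rwa [pPow_zero]) h0
  rwa [pPow_zero] at h1

/-- The unit-root part is saturated in `M`. -/
theorem inf_span_uroot (hG : IsIsoc G) (hM : M.IsLattice (FractionRing (WittVector p k)))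
    (hGM : latImg G 1 M ≤ M) :
    M ⊓ (Submodule.span (FractionRing (WittVector p k)) (uroot G M : Set N)).restrictScalars
      (WittVector p k) = uroot G M := by
  set P := Submodule.span (FractionRing (WittVector p k)) (uroot G M : Set N) with hPdef
  have hP : ∀ x ∈ P, G x ∈ P := by
    intro x hx
    induction hx using Submodule.span_induction with
    | mem z hz =>
      exact Submodule.subset_span (latImg_uroot hG hGM ▸ (iterate_mem_latImg (s := 1) hz))
    | zero => rw [map_zero]; exact zero_mem _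
    | add a b _ _ ha hb => rw [map_add]; exact add_mem ha hb
    | smul c a _ ha => rw [map_smulₛₗ]; exact P.smul_mem _ ha
  refine le_antisymm ?_ (le_inf uroot_le fun x hx => Submodule.subset_span hx)
  set B := M ⊓ P.restrictScalars (WittVector p k) with hBdef
  let ι := P.subtype.restrictScalars (WittVector p k)
  have hι : Function.Injective ι := P.injective_subtype
  have hr : ∀ X : Submodule (WittVector p k) N, X ≤ P.restrictScalars (WittVector p k) →
      (X.comap ι).map ι = X := fun X hX =>
    Submodule.map_comap_eq_self fun y hy => ⟨⟨y, hX hy⟩, rfl⟩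
  have hUP : uroot G M ≤ P.restrictScalars (WittVector p k) := fun x hx => Submodule.subset_span hx
  have hGB : latImg G 1 B ≤ B := by
    rw [latImg_le_iff]
    exact fun x hx => ⟨hGM (iterate_mem_latImg hx.1), hP _ hx.2⟩
  have hBfg : B.FG := by
    haveI := Module.Finite.iff_fg.mpr hM.fg
    haveI : IsNoetherian (WittVector p k) M := isNoetherian_of_isNoetherianRing_of_finite _ _
    haveI : IsNoetherian (WittVector p k) ↥B := isNoetherian_of_le inf_le_left
    exact Module.Finite.iff_fg.mp inferInstance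
  have hlat : ∀ X : Submodule (WittVector p k) N, X ≤ P.restrictScalars (WittVector p k) → X.FG →
      uroot G M ≤ X → (X.comap ι).IsLattice (FractionRing (WittVector p k)) := by
    intro X hX hfg hUX
    refine ⟨Submodule.fg_of_fg_map_injective _ hι (by rwa [hr X hX]), ?_⟩
    apply Submodule.map_injective_of_injective P.injective_subtype
    rw [← span_map_eq, hr X hX, Submodule.map_subtype_top]
    exact le_antisymm (Submodule.span_le.mpr hX) (Submodule.span_mono hUX)
  have hcomm : ∀ X : Submodule (WittVector p k) P,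
      (latImg (G.restrict hP) 1 X).map ι = latImg G 1 (X.map ι) := fun X =>
    map_latImg P.subtype (fun _ => rfl) 1 X
  have h1 := latImg_eq_of_eq (isIsoc_restrict hG hP)
    (hlat _ hUP (uroot_fg hM) le_rfl)
    (Submodule.map_injective_of_injective hι (by rw [hcomm, hr _ hUP, latImg_uroot hG hGM]))
    (hlat B inf_le_right hBfg (le_inf uroot_le hUP))
    (by
      rw [← Submodule.map_le_map_iff_of_injective hι, hcomm, hr B inf_le_right]
      exact hGB)
  have h2 : latImg G 1 B = B := by
    rw [← hr B inf_le_right, ← hcomm, h1]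
  refine le_iInf fun n => ?_
  induction n with
  | zero => rw [latImg_zero]; exact inf_le_left
  | succ n ih => rw [← h2, add_comm n 1, ← latImg_latImg]; exact latImg_mono _ _ ih

/-- Fitting decomposition. -/
theorem span_uroot_sup_contr (hG : IsIsoc G) (hM : M.IsLattice (FractionRing (WittVector p k)))
    (hGM : latImg G 1 M ≤ M) :
    Submodule.span (FractionRing (WittVector p k)) (uroot G M : Set N) ⊔ contr G M 0 1 = ⊤ := by
  rw [eq_top_iff, ← hM.span_eq_top, Submodule.span_le]
  intro x hx
  obtain ⟨n₀, hn₀, hle⟩ := latImg_le_uroot_sup hG hM hGM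
  have hUn : ∀ n, latImg G n (uroot G M) = uroot G M := fun n => by
    have := latImg_mul_eq (show latImg G 1 (uroot G M) = pPow 0 (uroot G M) by
      rw [pPow_zero, latImg_uroot hG hGM]) n
    rwa [one_mul, zero_mul, pPow_zero] at this
  have hu : ∀ m : ℕ, ∃ u ∈ uroot G M, (⇑G)^[m * n₀] (x - u) ∈ pPow (m : ℤ) M := by
    intro m
    obtain ⟨v, hv, w, hw, he⟩ := Submodule.mem_sup.mp (hle m (iterate_mem_latImg hx))
    rw [← hUn (m * n₀)] at hv
    obtain ⟨u, hu, rfl⟩ := mem_latImg.mp hv
    refine ⟨u, hu, ?_⟩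
    rw [iterate_map_sub, ← he, add_sub_cancel_left]
    exact hw
  choose u hu hux using hu
  have hGp : ∀ (n : ℕ) (m : ℤ), latImg G n (pPow m M) ≤ pPow m M := fun n m => by
    rw [latImg_pPow]; exact pPow_mono _ (latImg_le_self hGM n)
  have hcauchy : ∀ m : ℕ, u (m + 1) - u m ∈ pPow (m : ℤ) M := by
    intro m
    have h1 : (⇑G)^[(m + 1) * n₀] (x - u m) ∈ pPow (m : ℤ) M := by
      rw [show (m + 1) * n₀ = n₀ + m * n₀ by ring, Function.iterate_add_apply]
      exact hGp _ _ (iterate_mem_latImg (hux m))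
    have h2 : (⇑G)^[(m + 1) * n₀] (u (m + 1) - u m) ∈ pPow (m : ℤ) M := by
      rw [show u (m + 1) - u m = (x - u m) - (x - u (m + 1)) by abel, iterate_map_sub]
      exact sub_mem h1 (pPow_anti (by omega) M (hux (m + 1)))
    have h3 : (⇑G)^[(m + 1) * n₀] (u (m + 1) - u m) ∈ pPow (m : ℤ) (uroot G M) := by
      have h4 : (⇑G)^[(m + 1) * n₀] (u (m + 1) - u m) ∈ uroot G M :=
        hUn ((m + 1) * n₀) ▸ iterate_mem_latImg (sub_mem (hu _) (hu _))
      rw [← inf_span_uroot hG hM hGM, pPow_inf]
      exact ⟨h2, mem_pPow.mpr (Submodule.smul_mem _ _ (Submodule.subset_span h4))⟩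
    rw [← hUn ((m + 1) * n₀), ← latImg_pPow] at h3
    obtain ⟨y, hy, he⟩ := mem_latImg.mp h3
    obtain rfl : y = u (m + 1) - u m := (hG.bijective.injective.iterate _) he
    exact pPow_mono _ uroot_le hy
  obtain ⟨z, hz⟩ := exists_limit hM u hcauchy
  have hzU : z ∈ uroot G M := by
    rw [uroot, Submodule.mem_iInf]
    intro n
    refine mem_of_forall_mem_sup (isLattice_latImg hG n hM) hM.fg fun l => ?_
    have := Submodule.add_mem_sup (iInf_le (fun j => latImg G j M) n (hu l)) (hz l)
    rwa [add_sub_cancel] at this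
  refine Submodule.mem_sup.mpr ⟨z, Submodule.subset_span hzU, x - z, fun m => ?_, by abel⟩
  refine ⟨m * n₀ + 1, Nat.succ_pos _, fun t ht => ?_⟩
  rw [zero_mul, zero_add, one_mul]
  obtain ⟨e, he⟩ : ∃ e, (m * n₀ + 1) * t = e + m * n₀ :=
    ⟨(m * n₀ + 1) * t - m * n₀, by
      have : (m * n₀ + 1) * 1 ≤ (m * n₀ + 1) * t := Nat.mul_le_mul_left _ ht
      omega⟩
  rw [he, Function.iterate_add_apply]
  refine hGp _ _ (iterate_mem_latImg ?_)
  rw [show x - z = (x - u m) - (z - u m) by abel, iterate_map_sub]
  exact sub_mem (hux m) (hGp _ _ (iterate_mem_latImg (hz m)))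

theorem span_uroot_inf_contr (hG : IsIsoc G) (hM : M.IsLattice (FractionRing (WittVector p k)))
    (hGM : latImg G 1 M ≤ M) :
    Submodule.span (FractionRing (WittVector p k)) (uroot G M : Set N) ⊓ contr G M 0 1 = ⊥ :=
  contr_inf_eq_bot hG hM (uroot_fg hM) (by rw [pPow_zero, latImg_uroot hG hGM])

/-- A map commuting with `G` preserves the unit-root subspace. -/
theorem span_uroot_stable {τ' : FractionRing (WittVector p k) →+* FractionRing (WittVector p k)}
    [Good τ'] (F : N →ₛₗ[τ'] N) (hcomm : ∀ x, F (G x) = G (F x))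
    (hM : M.IsLattice (FractionRing (WittVector p k))) {x : N}
    (hx : x ∈ Submodule.span (FractionRing (WittVector p k)) (uroot G M : Set N)) :
    F x ∈ Submodule.span (FractionRing (WittVector p k)) (uroot G M : Set N) := by
  induction hx using Submodule.span_induction with
  | zero => rw [map_zero]; exact zero_mem _
  | add a b _ _ ha hb => rw [map_add]; exact add_mem ha hb
  | smul c a _ ha => rw [map_smulₛₗ]; exact Submodule.smul_mem _ _ ha
  | mem z hz =>
    obtain ⟨c, hc⟩ := exists_le_pPow_lattice hM (latImg_fg F 1 hM.fg)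
    have h1 : pi p k (c : ℤ) • F z ∈ uroot G M := by
      rw [uroot, SetLike.mem_coe, Submodule.mem_iInf] at hz
      rw [uroot, Submodule.mem_iInf]
      intro n
      obtain ⟨y, hy, rfl⟩ := mem_latImg.mp (hz n)
      have hFG : F ((⇑G)^[n] y) = (⇑G)^[n] (F y) :=
        (Function.Semiconj.iterate_right (f := F) (fun x => hcomm x) n).eq y
      rw [hFG, ← iterate_smul_pi]
      refine iterate_mem_latImg ?_
      have h2 := hc (iterate_mem_latImg (F := F) (s := 1) hy)
      rwa [mem_pPow, neg_neg] at h2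
    have h2 := Submodule.smul_mem _ (pi p k (-(c : ℤ)))
      (Submodule.subset_span (R := FractionRing (WittVector p k)) h1)
    rwa [smul_smul, ← pi_add, neg_add_cancel, show pi p k 0 = 1 from zpow_zero _, one_smul] at h2

/-- A map commuting with `G` preserves the contracted vectors. -/
theorem contr_stable {τ' : FractionRing (WittVector p k) →+* FractionRing (WittVector p k)}
    [Good τ'] (F : N →ₛₗ[τ'] N) (hcomm : ∀ x, F (G x) = G (F x))
    (hM : M.IsLattice (FractionRing (WittVector p k))) {x : N} {r : ℤ} {s : ℕ}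
    (hx : x ∈ contr G M r s) : F x ∈ contr G M r s := by
  obtain ⟨c, hc⟩ := exists_le_pPow_lattice hM (latImg_fg F 1 hM.fg)
  intro m
  obtain ⟨T, hT, hTx⟩ := hx (m + c)
  refine ⟨T, hT, fun t ht => ?_⟩
  rw [← (Function.Semiconj.iterate_right (f := F) (fun x => hcomm x) _).eq x]
  have h1 : F ((⇑G)^[s * (T * t)] x) ∈
      latImg F 1 (pPow (r * (T * t : ℕ) + (m + c : ℕ)) M) :=
    iterate_mem_latImg (F := F) (s := 1) (hTx t ht)
  rw [latImg_pPow] at h1
  have h2 := pPow_mono _ hc h1
  rw [pPow_add] at h2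
  exact pPow_anti (by push_cast; omega) M h2

end Groth.Agent.IsocLib

end
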