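import Groth.Agent.IsocLib.Fitting
import Mathlib.FieldTheory.IsAlgClosed.Basic
import Mathlib.LinearAlgebra.Matrix.NonsingularInverse
import Mathlib.Algebra.Polynomial.Div
import Mathlib.LinearAlgebra.Matrix.ToLin

/-!
# Fixed vectors of bijective semilinear maps: over `k` algebraically closed, and over `W(k)`
-/

set_option autoImplicit false
set_option linter.unusedSectionVars false

noncomputable section

open Polynomial

universe u v

namespace Groth.Agent.IsocLib

section Field

variable {k : Type u} [Field k] [IsAlgClosed k] {q : ℕ} (hq : 2 ≤ q)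

/-- `B_i` with `B_0 = a_0 X^q`, `B_{i+1} = B_i^q + a_{i+1} X^q`. -/
def langPoly (q : ℕ) (a : ℕ → k) : ℕ → k[X]
  | 0 => C (a 0) * X ^ q
  | i + 1 => langPoly q a i ^ q + C (a (i + 1)) * X ^ q

include hq

theorem X_pow_dvd_langPoly (a : ℕ → k) (i : ℕ) : X ^ q ∣ langPoly q a i := by
  induction i with
  | zero => exact dvd_mul_left _ _
  | succ i ih => exact dvd_add (dvd_pow ih (by omega)) (dvd_mul_left _ _)

theorem natDegree_langPoly (a : ℕ → k) (ha : a 0 ≠ 0) (i : ℕ) :
    (langPoly q a i).natDegree = q ^ (i + 1) := by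
  induction i with
  | zero => rw [langPoly, natDegree_C_mul_X_pow _ _ ha, pow_one]
  | succ i ih =>
    have h1 : (langPoly q a i ^ q).natDegree = q ^ (i + 1 + 1) := by
      rw [natDegree_pow, ih]; ring
    rw [langPoly, natDegree_add_eq_left_of_natDegree_lt, h1]
    rw [h1]
    refine lt_of_le_of_lt (natDegree_C_mul_X_pow_le _ _) ?_
    calc q = q ^ 1 := (pow_one q).symm
      _ < q ^ (i + 1 + 1) := Nat.pow_lt_pow_right (by omega) (by omega)

theorem exists_fixed_ne_zero {V : Type v} [AddCommGroup V] [Module k V] [Module.Finite k V]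
    [Nontrivial V] (f : V →+ V) (hsmul : ∀ (c : k) x, f (c • x) = c ^ q • f x)
    (hinj : Function.Injective f) : ∃ x, x ≠ 0 ∧ f x = x := by
  classical
  obtain ⟨v, hv⟩ := exists_ne (0 : V)
  let e : ℕ → V := fun i => (⇑f)^[i] v
  have hex : ∃ r : ℕ, ¬ LinearIndependent k (fun i : Fin (r + 1) => e i) :=
    ⟨Module.finrank k V, fun h => by simpa using h.fintype_card_le_finrank⟩
  obtain ⟨r, hr⟩ : ∃ r, Nat.find hex = r + 1 := by
    refine ⟨Nat.find hex - 1, ?_⟩
    have : 0 < Nat.find hex := (Nat.find_pos hex).mpr
      (not_not.mpr (Fintype.linearIndependent_iff.mpr fun g hg i => by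
        fin_cases i; simpa [Fin.sum_univ_one, e, hv] using hg))
    omega
  have hli : LinearIndependent k (fun i : Fin (r + 1) => e i) :=
    not_not.mp (Nat.find_min hex (by omega))
  have hdep : ¬ LinearIndependent k (fun i : Fin (r + 1 + 1) => e i) := hr ▸ Nat.find_spec hex
  have hmem : e (r + 1) ∈ Submodule.span k (Set.range fun i : Fin (r + 1) => e i) := by
    by_contra hc
    refine hdep ?_
    rw [show (fun i : Fin (r + 1 + 1) => e i) = Fin.snoc (fun i : Fin (r + 1) => e i) (e (r + 1))
      from funext fun i => by refine Fin.lastCases ?_ (fun j => ?_) i <;> simp]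
    exact linearIndependent_finSnoc.mpr ⟨hli, hc⟩
  obtain ⟨a', ha'⟩ := (Submodule.mem_span_range_iff_exists_fun k).mp hmem
  let a : ℕ → k := fun i => if h : i < r + 1 then a' ⟨i, h⟩ else 0
  have ha : e (r + 1) = ∑ i ∈ Finset.range (r + 1), a i • e i := by
    rw [← ha', ← Fin.sum_univ_eq_sum_range]
    exact Finset.sum_congr rfl fun i _ => by rw [show a i = a' i from dif_pos i.isLt]
  have he : ∀ i, f (e i) = e (i + 1) := fun i => (Function.iterate_succ_apply' _ _ _).symm
  have ha0 : a 0 ≠ 0 := by
    intro h0
    choose b hb using fun i => IsAlgClosed.exists_pow_nat_eq (a (i + 1)) (show 0 < q by omega)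
    have h1 : e r = ∑ i ∈ Finset.range r, b i • e i := by
      apply hinj
      rw [he, ha, map_sum, Finset.sum_range_succ', h0, zero_smul, add_zero]
      exact Finset.sum_congr rfl fun i _ => by rw [hsmul, he, hb]
    have h2 : e r ∈ Submodule.span k (Set.range fun i : Fin r => e i) := by
      rw [h1]
      exact Submodule.sum_mem _ fun i hi => Submodule.smul_mem _ _
        (Submodule.subset_span ⟨⟨i, Finset.mem_range.mp hi⟩, rfl⟩)
    rw [show (fun i : Fin (r + 1) => e i) = Fin.snoc (fun i : Fin r => e i) (e r)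
      from funext fun i => by refine Fin.lastCases ?_ (fun j => ?_) i <;> simp] at hli
    exact (linearIndependent_finSnoc.mp hli).2 h2
  set P : k[X] := langPoly q a r - X with hP
  have hdeg : P.natDegree = q ^ (r + 1) := by
    rw [hP, natDegree_sub_eq_left_of_natDegree_lt, natDegree_langPoly hq a ha0]
    rw [natDegree_langPoly hq a ha0, natDegree_X]
    exact Nat.one_lt_pow (by omega) (by omega)
  have hc1 : P.coeff 1 = -1 := by
    rw [hP, coeff_sub, coeff_X_one, (X_pow_dvd_iff.mp (X_pow_dvd_langPoly hq a r)) 1 (by omega),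
      zero_sub]
  have hc0 : P.coeff 0 = 0 := by
    rw [hP, coeff_sub, coeff_X_zero, (X_pow_dvd_iff.mp (X_pow_dvd_langPoly hq a r)) 0 (by omega),
      sub_zero]
  have hdiv : P.divX.degree ≠ 0 := by
    have h1 : 0 < P.divX.natDegree := by
      rw [natDegree_divX_eq_natDegree_tsub_one, hdeg]
      have := Nat.one_lt_pow (show r + 1 ≠ 0 by omega) (show 1 < q by omega)
      omega
    exact (natDegree_pos_iff_degree_pos.mp h1).ne'
  obtain ⟨t, ht⟩ := IsAlgClosed.exists_root P.divX hdiv
  have ht0 : t ≠ 0 := by
    intro h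
    rw [h, IsRoot.def, ← coeff_zero_eq_eval_zero, coeff_divX, zero_add, hc1] at ht
    exact one_ne_zero (neg_eq_zero.mp ht)
  have hPt : (langPoly q a r).eval t = t := by
    have h1 : P.eval t = 0 := by
      conv_lhs => rw [← X_mul_divX_add P]
      simp [IsRoot.def.mp ht, hc0]
    rwa [hP, eval_sub, eval_X, sub_eq_zero] at h1
  let b : ℕ → k := fun i => (langPoly q a i).eval t
  refine ⟨∑ i ∈ Finset.range (r + 1), b i • e i, fun h0 => ?_, ?_⟩
  · rw [← Fin.sum_univ_eq_sum_range] at h0
    have h3 : b r = 0 := Fintype.linearIndependent_iff.mp hli (fun i => b i) h0 (Fin.last r)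
    exact ht0 (hPt ▸ h3)
  · rw [map_sum]
    simp only [hsmul, he]
    rw [Finset.sum_range_succ, ha, show b r = t from hPt, Finset.smul_sum]
    simp only [smul_smul]
    rw [Finset.sum_range_succ' (fun i => (t ^ q * a i) • e i),
      Finset.sum_range_succ' (fun i => b i • e i), ← add_assoc, ← Finset.sum_add_distrib]
    congr 1
    · refine Finset.sum_congr rfl fun i _ => ?_
      rw [← add_smul]
      congr 1
      simp [b, langPoly]
      ring
    · congr 1
      simp [b, langPoly]
      ring

/-- Lang's theorem over an algebraically closed field. -/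
theorem span_fixed_eq_top {p n : ℕ} [Fact p.Prime] [CharP k p] (hqp : q = p ^ n)
    {V : Type v} [AddCommGroup V] [Module k V] [Module.Finite k V]
    (f : V →+ V) (hsmul : ∀ (c : k) x, f (c • x) = c ^ q • f x) (hinj : Function.Injective f) :
    Submodule.span k {x | f x = x} = ⊤ := by
  induction hn : Module.finrank k V using Nat.strong_induction_on generalizing V with
  | _ d ih =>
  rcases subsingleton_or_nontrivial V with h | h
  · exact Subsingleton.elim _ _
  obtain ⟨x, hx0, hx⟩ := exists_fixed_ne_zero hq f hsmul hinj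
  let K := Submodule.span k {x}
  let θ : k →+* k := iterateFrobenius k p n
  have hθ : ∀ c, θ c = c ^ q := fun c => by rw [hqp]; exact iterateFrobenius_def p n c
  let fl : V →ₛₗ[θ] V := { f with map_smul' := fun c y => by rw [hθ]; exact hsmul c y }
  have hKf : K ≤ K.comap fl := by
    rw [Submodule.span_le, Set.singleton_subset_iff]
    show fl x ∈ K
    rw [show fl x = x from hx]
    exact Submodule.mem_span_singleton_self x
  have hKinv : ∀ y, f y ∈ K → y ∈ K := by
    intro y hy
    obtain ⟨c, hc⟩ := Submodule.mem_span_singleton.mp hy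
    obtain ⟨c', rfl⟩ := IsAlgClosed.exists_pow_nat_eq c (show 0 < q by omega)
    refine Submodule.mem_span_singleton.mpr ⟨c', hinj ?_⟩
    rw [hsmul, hx, hc]
  have hlt : Module.finrank k (V ⧸ K) < d := by
    have h1 := Submodule.finrank_quotient_add_finrank K
    have h2 : Module.finrank k K = 1 := finrank_span_singleton hx0
    omega
  have hq' := ih _ hlt (V := V ⧸ K) (K.mapQ K fl hKf).toAddMonoidHom
    (fun c y => by rw [← hθ]; exact (K.mapQ K fl hKf).map_smulₛₗ c y)
    (by
      rw [injective_iff_map_eq_zero]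
      intro y hy
      obtain ⟨y, rfl⟩ := K.mkQ_surjective y
      exact (Submodule.Quotient.mk_eq_zero K).mpr (hKinv y ((Submodule.Quotient.mk_eq_zero K).mp hy)))
    rfl
  have hxS : x ∈ Submodule.span k {y | f y = y} := Submodule.subset_span hx
  have hKS : K ≤ Submodule.span k {y | f y = y} :=
    Submodule.span_le.mpr (Set.singleton_subset_iff.mpr hxS)
  have hmap : Submodule.span k {z | K.mapQ K fl hKf z = z} ≤
      (Submodule.span k {y | f y = y}).map K.mkQ := by
    rw [Submodule.span_le]
    intro z hz
    obtain ⟨y, rfl⟩ := K.mkQ_surjective z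
    have h1 : f y - y ∈ K := (Submodule.Quotient.eq K).mp hz
    obtain ⟨c, hc⟩ := Submodule.mem_span_singleton.mp h1
    obtain ⟨t, ht⟩ := IsAlgClosed.exists_root (X ^ q - X + C c : k[X]) (by
      rw [degree_add_eq_left_of_degree_lt]
      · rw [degree_sub_eq_left_of_degree_lt] <;> simp <;> omega
      · rw [degree_sub_eq_left_of_degree_lt] <;> rw [degree_X_pow]
        · exact lt_of_le_of_lt degree_C_le (by exact_mod_cast (show 0 < q by omega))
        · rw [degree_X]; exact_mod_cast (show 1 < q by omega))
    simp only [IsRoot.def, eval_add, eval_sub, eval_pow, eval_X, eval_C] at ht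
    refine ⟨y + t • x, Submodule.subset_span ?_, ?_⟩
    · show f (y + t • x) = y + t • x
      rw [map_add, hsmul, hx, show f y = y + c • x by rw [hc]; abel, add_assoc, ← add_smul,
        show c + t ^ q = t by linear_combination ht]
    · rw [map_add, add_eq_left, Submodule.mkQ_apply, Submodule.Quotient.mk_eq_zero]
      exact Submodule.smul_mem _ _ (Submodule.mem_span_singleton_self x)
  rw [eq_top_iff]
  intro y _
  obtain ⟨z, hz, hzy⟩ := hmap (hq'.ge (Submodule.mem_top (x := K.mkQ y)))
  have h1 : y - z ∈ K := (Submodule.Quotient.eq K).mp hzy.symm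
  simpa using add_mem hz (hKS h1)

end Field

section Witt

variable {p : ℕ} [Fact p.Prime] {k : Type u} [Field k] [CharP k p] [PerfectRing k p]

theorem witt_exists_limit (f : ℕ → WittVector p k)
    (hf : ∀ n, (p : WittVector p k) ^ n ∣ f (n + 1) - f n) :
    ∃ x, ∀ n, (p : WittVector p k) ^ n ∣ x - f n := by
  have hdvd : ∀ {m n}, m ≤ n → (p : WittVector p k) ^ m ∣ f n - f m := by
    intro m n h
    induction n, h using Nat.le_induction with
    | base => simp
    | succ n hn ih =>
      rw [← sub_add_sub_cancel]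
      exact dvd_add (dvd_trans (pow_dvd_pow _ hn) (hf n)) ih
  obtain ⟨x, hx⟩ := IsPrecomplete.prec (I := Ideal.span {(p : WittVector p k)})
    (M := WittVector p k) inferInstance (f := f) (fun {m n} hmn => by
      rw [SModEq.sub_mem, smul_eq_mul, Ideal.mul_top, Ideal.span_singleton_pow,
        Ideal.mem_span_singleton, ← neg_sub, dvd_neg]
      exact hdvd hmn)
  refine ⟨x, fun n => ?_⟩
  have := hx n
  rwa [SModEq.sub_mem, smul_eq_mul, Ideal.mul_top, Ideal.span_singleton_pow,
    Ideal.mem_span_singleton, ← neg_sub, dvd_neg] at this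

theorem p_dvd_iff {w : WittVector p k} :
    (p : WittVector p k) ∣ w ↔ WittVector.constantCoeff w = 0 := by
  rw [← Ideal.mem_span_singleton, ← WittVector.ker_constantCoeff, RingHom.mem_ker]

theorem eq_zero_of_forall_dvd {w : WittVector p k} (h : ∀ n : ℕ, (p : WittVector p k) ^ n ∣ w) :
    w = 0 := by
  by_contra hw
  obtain ⟨m, b, rfl⟩ := WittVector.exists_eq_pow_p_mul' w hw
  have h1 := h (m + 1)
  rw [pow_succ, mul_dvd_mul_iff_left (pow_ne_zero _ (WittVector.p_nonzero p k))] at h1
  exact (WittVector.irreducible p).not_isUnit (isUnit_of_dvd_unit h1 b.isUnit)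

variable [IsAlgClosed k] {h : Type*} [Fintype h] [DecidableEq h]

/-- An invertible matrix whose columns are fixed by `v ↦ C σ(v)`. -/
theorem exists_fixed_matrix (σ : WittVector p k ≃+* WittVector p k) {n : ℕ} (hn : 0 < n)
    (hσ : ∀ w, WittVector.constantCoeff (σ w) = WittVector.constantCoeff w ^ p ^ n)
    (C : Matrix h h (WittVector p k)) (hC : IsUnit C.det) :
    ∃ U : Matrix h h (WittVector p k), IsUnit U.det ∧
      ∀ j, C.mulVec (fun i => σ (U i j)) = fun i => U i j := by
  have hp : 2 ≤ p := (Fact.out : p.Prime).two_le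
  have hq : 2 ≤ p ^ n := hp.trans (Nat.le_self_pow hn.ne' p)
  let κ : WittVector p k →+* k := WittVector.constantCoeff
  let Cb := C.map κ
  have hCb : IsUnit Cb.det := by
    have : Cb.det = κ C.det := (RingHom.map_det κ C).symm
    rw [this]; exact hC.map κ
  let fb : (h → k) →+ (h → k) :=
    { toFun := fun v => Cb.mulVec (fun i => v i ^ p ^ n)
      map_zero' := by
        rw [show (fun i => (0 : h → k) i ^ p ^ n) = 0 from funext fun i => by
          simp [(Fact.out : p.Prime).ne_zero], Matrix.mulVec_zero]
      map_add' := fun x y => by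
        rw [← Matrix.mulVec_add]
        congr 1
        funext i
        exact add_pow_char_pow (x i) (y i) p n }
  have hfb : ∀ (c : k) x, fb (c • x) = c ^ p ^ n • fb x := fun c x => by
    show Cb.mulVec _ = _ • Cb.mulVec _
    rw [← Matrix.mulVec_smul]
    congr 1
    funext i
    simp [mul_pow]
  have hinj : Function.Injective fb := by
    intro x y hxy
    funext i
    have := congrFun (Matrix.mulVec_injective_iff_isUnit.mpr
      ((Matrix.isUnit_iff_isUnit_det _).mpr hCb) hxy) i
    exact iterateFrobenius_inj k p n this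
  have hspan := span_fixed_eq_top hq rfl fb hfb hinj
  -- a basis of fixed vectors mod p
  obtain ⟨s, hs, hsp, hli⟩ := exists_linearIndependent k {x | fb x = x}
  rw [hspan] at hsp
  let bk : Module.Basis s k (h → k) := Module.Basis.mk hli (by rw [Subtype.range_coe, hsp])
  haveI : Fintype s := FiniteDimensional.fintypeBasisIndex bk
  let bh : Module.Basis h k (h → k) := bk.reindex (bk.indexEquiv (Pi.basisFun k h))
  have hfix : ∀ j, fb (bh j) = bh j := fun j => by
    have : bh j ∈ {x | fb x = x} := by
      simp only [bh, Module.Basis.reindex_apply, bk, Module.Basis.mk_apply]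
      exact hs (Subtype.coe_prop _)
    exact this
  -- solvability of `f z - z = e` mod p
  have hsolve : ∀ e : h → k, ∃ z, fb z - z = e := by
    intro e
    have hroot : ∀ j, ∃ c : k, c ^ p ^ n - c = bh.repr e j := fun j => by
      obtain ⟨c, hc⟩ := IsAlgClosed.exists_root (X ^ (p ^ n) - X - Polynomial.C (bh.repr e j) : k[X]) (by
        rw [degree_sub_eq_left_of_degree_lt]
        · rw [degree_sub_eq_left_of_degree_lt] <;> rw [degree_X_pow]
          · exact_mod_cast (show p ^ n ≠ 0 by omega)
          · rw [degree_X]; exact_mod_cast (show 1 < p ^ n by omega)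
        · rw [degree_sub_eq_left_of_degree_lt] <;> rw [degree_X_pow]
          · exact lt_of_le_of_lt degree_C_le (by exact_mod_cast (show 0 < p ^ n by omega))
          · rw [degree_X]; exact_mod_cast (show 1 < p ^ n by omega))
      simp only [IsRoot.def, eval_sub, eval_pow, eval_X, eval_C, sub_eq_zero] at hc
      exact ⟨c, hc⟩
    choose c hc using hroot
    refine ⟨∑ j, c j • bh j, ?_⟩
    rw [map_sum, ← Finset.sum_sub_distrib]
    conv_rhs => rw [← bh.sum_repr e]
    exact Finset.sum_congr rfl fun j _ => by rw [hfb, hfix, ← sub_smul, hc]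
  -- lifting
  let T : (h → WittVector p k) → (h → WittVector p k) := fun v => C.mulVec (fun i => σ (v i))
  have hTadd : ∀ v w, T (v + w) = T v + T w := fun v w => by
    show C.mulVec _ = C.mulVec _ + C.mulVec _
    rw [← Matrix.mulVec_add]
    congr 1
    funext i
    simp
  have hTp : ∀ (m : ℕ) v, T ((p : WittVector p k) ^ m • v) = (p : WittVector p k) ^ m • T v :=
    fun m v => by
      show C.mulVec _ = _ • C.mulVec _
      rw [← Matrix.mulVec_smul]
      congr 1
      funext i
      simp [map_mul, map_pow]
  have hTκ : ∀ v i, κ (T v i) = fb (fun i => κ (v i)) i := fun v i => by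
    show κ (C.mulVec _ i) = Cb.mulVec _ i
    rw [RingHom.map_mulVec]
    congr 1
    funext l
    exact hσ (v l)
  have hlift : ∀ ub : h → k, fb ub = ub → ∃ v, T v = v ∧ ∀ i, κ (v i) = ub i := by
    intro ub hub
    have hnext : ∀ (m : ℕ) (v : h → WittVector p k), (∀ i, (p : WittVector p k) ^ m ∣ T v i - v i) →
        ∃ v' : h → WittVector p k, (∀ i, (p : WittVector p k) ^ (m + 1) ∣ T v' i - v' i) ∧
          ∀ i, (p : WittVector p k) ^ m ∣ v' i - v i := by
      intro m v hv
      choose e he using hv
      obtain ⟨z, hz⟩ := hsolve (fun i => -κ (e i))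
      let w : h → WittVector p k := fun i => WittVector.teichmuller p (z i)
      have hw : ∀ i, κ (w i) = z i := fun i => WittVector.teichmuller_coeff_zero p (z i)
      refine ⟨v + (p : WittVector p k) ^ m • w, fun i => ?_, fun i => ⟨w i, by simp⟩⟩
      have h1 : T (v + (p : WittVector p k) ^ m • w) i - (v + (p : WittVector p k) ^ m • w) i =
          (p : WittVector p k) ^ m * (e i + (T w i - w i)) := by
        rw [hTadd, hTp]
        simp only [Pi.add_apply, Pi.smul_apply, smul_eq_mul]
        linear_combination he i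
      rw [h1, pow_succ]
      refine mul_dvd_mul_left _ (p_dvd_iff.mpr ?_)
      have h2 := congrFun hz i
      simp only [Pi.sub_apply] at h2
      show κ _ = 0
      rw [map_add, map_sub, hTκ, show (fun i => κ (w i)) = z from funext hw, hw, h2]
      ring
    choose nx hnx1 hnx2 using hnext
    let v0 : h → WittVector p k := fun i => WittVector.teichmuller p (ub i)
    have hκ0 : (fun i => κ (v0 i)) = ub := funext fun i => WittVector.teichmuller_coeff_zero p _
    have hv0 : ∀ i, (p : WittVector p k) ^ 1 ∣ T v0 i - v0 i := fun i => by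
      rw [pow_one]
      refine p_dvd_iff.mpr ?_
      show κ _ = 0
      rw [map_sub, hTκ, hκ0, hub, ← congrFun hκ0 i, sub_self]
    let seq : (m : ℕ) → {v : h → WittVector p k // ∀ i, (p : WittVector p k) ^ (m + 1) ∣ T v i - v i} :=
      fun m => Nat.rec (motive := fun m => {v : h → WittVector p k //
          ∀ i, (p : WittVector p k) ^ (m + 1) ∣ T v i - v i}) ⟨v0, hv0⟩
        (fun m v => ⟨nx (m + 1) v.1 v.2, hnx1 _ _ _⟩) m
    have hseq : ∀ i m, (p : WittVector p k) ^ (m + 1) ∣ (seq (m + 1)).1 i - (seq m).1 i :=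
      fun i m => hnx2 (m + 1) (seq m).1 (seq m).2 i
    choose x hx using fun i => witt_exists_limit (fun m => (seq m).1 i)
      (fun m => dvd_trans (pow_dvd_pow _ (Nat.le_succ m)) (hseq i m))
    refine ⟨x, funext fun i => sub_eq_zero.mp (eq_zero_of_forall_dvd fun m => ?_), fun i => ?_⟩
    · choose y hy using fun l => hx l m
      have hxe : x = (seq m).1 + (p : WittVector p k) ^ m • y := funext fun l => by
        simp only [Pi.add_apply, Pi.smul_apply, smul_eq_mul]
        linear_combination hy l
      obtain ⟨z, hz⟩ := dvd_trans (pow_dvd_pow _ (Nat.le_succ m)) ((seq m).2 i)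
      rw [hxe, hTadd, hTp]
      simp only [Pi.add_apply, Pi.smul_apply, smul_eq_mul]
      exact ⟨z + (T y i - y i), by linear_combination hz⟩
    · have h1 : (p : WittVector p k) ∣ x i - v0 i := by
        have h2 := dvd_add (hx i 1) (hseq i 0)
        simp only [zero_add, pow_one, sub_add_sub_cancel] at h2
        exact h2
      have h3 := p_dvd_iff.mp h1
      rw [map_sub, sub_eq_zero] at h3
      exact h3.trans (congrFun hκ0 i)
  choose u hu1 hu2 using fun j => hlift (bh j) (hfix j)
  refine ⟨Matrix.of fun i j => u j i, ?_, fun j => hu1 j⟩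
  refine WittVector.isUnit_of_coeff_zero_ne_zero _ ?_
  rw [← WittVector.constantCoeff_apply, RingHom.map_det]
  have h1 : RingHom.mapMatrix κ (Matrix.of fun i j => u j i) = (Pi.basisFun k h).toMatrix bh := by
    ext i j
    simp [Module.Basis.toMatrix_apply, hu2]
  rw [h1]
  exact (Matrix.isUnit_det_of_left_inverse
    (Module.Basis.toMatrix_mul_toMatrix_flip bh (Pi.basisFun k h))).ne_zero

end Witt

end Groth.Agent.IsocLib

end
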