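import Groth.Agent.IsocLib.Basic
import Mathlib.Analysis.Subadditive
import Mathlib.LinearAlgebra.Matrix.Basis
import Mathlib.LinearAlgebra.Matrix.NonsingularInverse

/-!
# Orders, the first slope, and the order of the determinant
-/

set_option autoImplicit false
set_option linter.unusedSectionVars false

noncomputable section

open scoped Pointwise
open Isoc Filter Topology

universe u v

namespace Groth.Agent.IsocLib

variable {p : ℕ} [Fact p.Prime] {k : Type u} [Field k] [CharP k p]
variable {N : Type v} [AddCommGroup N] [Module (WittVector p k) N]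
  [Module (FractionRing (WittVector p k)) N]
  [IsScalarTower (WittVector p k) (FractionRing (WittVector p k)) N]
variable {τ : FractionRing (WittVector p k) →+* FractionRing (WittVector p k)} [Good τ]
variable {F : N →ₛₗ[τ] N}

/-! ### Orders -/

theorem isOrd_le {M : Submodule (WittVector p k) N} {s : ℕ} {r q : ℤ} (h : IsOrd M F s r)
    (hq : latImg F s M ≤ pPow q M) : q ≤ r := by
  by_contra hc
  exact h.2 (hq.trans (pPow_anti (by omega) M))

theorem isOrd_unique {M : Submodule (WittVector p k) N} {s : ℕ} {r q : ℤ} (h : IsOrd M F s r)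
    (h' : IsOrd M F s q) : r = q :=
  le_antisymm (isOrd_le h' h.1) (isOrd_le h h'.1)

theorem nontrivial_of_isOrd {M : Submodule (WittVector p k) N} {s : ℕ} {r : ℤ}
    (h : IsOrd M F s r) : Nontrivial N := by
  by_contra hn
  rw [not_nontrivial_iff_subsingleton] at hn
  refine h.2 fun x _ => ?_
  rw [Subsingleton.elim x 0]
  exact zero_mem _

theorem nontrivial_of_isFirstSlope {lam : ℝ} (h : IsFirstSlope F lam) : Nontrivial N := by
  obtain ⟨M, -, o, ho, -⟩ := h
  exact nontrivial_of_isOrd (ho 1 le_rfl)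

variable [PerfectRing k p]

/-- `M ≤ p^{-c} F(M)` and `F M ≤ p^{-c} M` for some `c`. -/
theorem exists_bounds (hF : IsIsoc F) {M : Submodule (WittVector p k) N}
    (hM : M.IsLattice (FractionRing (WittVector p k))) :
    ∃ c : ℕ, latImg F 1 M ≤ pPow (-(c : ℤ)) M ∧ M ≤ pPow (-(c : ℤ)) (latImg F 1 M) := by
  obtain ⟨a, ha⟩ := exists_le_pPow_lattice hM (latImg_fg F 1 hM.fg)
  obtain ⟨b, hb⟩ := exists_le_pPow_lattice (isLattice_latImg hF 1 hM) hM.fg
  exact ⟨max a b, ha.trans (pPow_anti (by omega) _), hb.trans (pPow_anti (by omega) _)⟩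

theorem le_pPow_latImg {M : Submodule (WittVector p k) N} {c : ℤ}
    (h : M ≤ pPow c (latImg F 1 M)) (n : ℕ) : M ≤ pPow (c * n) (latImg F n M) := by
  induction n with
  | zero => simp [latImg_zero, pPow_zero]
  | succ n ih =>
    calc M ≤ pPow c (latImg F 1 M) := h
      _ ≤ pPow c (latImg F 1 (pPow (c * n) (latImg F n M))) := pPow_mono _ (latImg_mono _ _ ih)
      _ = _ := by
        rw [latImg_pPow, latImg_latImg, pPow_add, add_comm 1 n]
        congr 1; push_cast; ring

variable [Nontrivial N]

theorem exists_isOrd (hF : IsIsoc F) {M : Submodule (WittVector p k) N}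
    (hM : M.IsLattice (FractionRing (WittVector p k))) (s : ℕ) : ∃ r : ℤ, IsOrd M F s r := by
  obtain ⟨c, hc1, hc2⟩ := exists_bounds hF hM
  have hne : latImg F s M ≤ pPow (-(c : ℤ) * s) M := by simpa using latImg_mul_le hc1 s
  have hbd : ∀ r : ℤ, latImg F s M ≤ pPow r M → r ≤ (c : ℤ) * s := by
    intro r hr
    have := le_of_le_pPow hM ((le_pPow_latImg hc2 s).trans ((pPow_mono _ hr).trans
      (pPow_add _ _ M).le))
    linarith
  obtain ⟨r, hr, hmax⟩ := Int.exists_greatest_of_bdd (P := fun r => latImg F s M ≤ pPow r M)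
    ⟨(c : ℤ) * s, hbd⟩ ⟨_, hne⟩
  exact ⟨r, hr, fun h => by have := hmax _ h; omega⟩

/-- `ord_M (F^n)` as a function. -/
def oFun (hF : IsIsoc F) {M : Submodule (WittVector p k) N}
    (hM : M.IsLattice (FractionRing (WittVector p k))) (n : ℕ) : ℤ :=
  (exists_isOrd hF hM n).choose

theorem oFun_spec (hF : IsIsoc F) {M : Submodule (WittVector p k) N}
    (hM : M.IsLattice (FractionRing (WittVector p k))) (n : ℕ) : IsOrd M F n (oFun hF hM n) :=
  (exists_isOrd hF hM n).choose_spec

theorem oFun_add (hF : IsIsoc F) {M : Submodule (WittVector p k) N}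
    (hM : M.IsLattice (FractionRing (WittVector p k))) (m n : ℕ) :
    oFun hF hM m + oFun hF hM n ≤ oFun hF hM (m + n) :=
  isOrd_le (oFun_spec hF hM _) (latImg_add_le (oFun_spec hF hM m).1 (oFun_spec hF hM n).1)

theorem oFun_bdd (hF : IsIsoc F) {M : Submodule (WittVector p k) N}
    (hM : M.IsLattice (FractionRing (WittVector p k))) :
    ∃ c : ℕ, ∀ n : ℕ, -(c : ℤ) * n ≤ oFun hF hM n ∧ oFun hF hM n ≤ c * n := by
  obtain ⟨c, hc1, hc2⟩ := exists_bounds hF hM
  refine ⟨c, fun n => ⟨isOrd_le (oFun_spec hF hM n) (by simpa using latImg_mul_le hc1 n), ?_⟩⟩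
  have := le_of_le_pPow hM ((le_pPow_latImg hc2 n).trans ((pPow_mono _ (oFun_spec hF hM n).1).trans
    (pPow_add _ _ M).le))
  linarith

theorem exists_tendsto_oFun (hF : IsIsoc F) {M : Submodule (WittVector p k) N}
    (hM : M.IsLattice (FractionRing (WittVector p k))) :
    ∃ lam : ℝ, Tendsto (fun n : ℕ => (oFun hF hM n : ℝ) / n) atTop (𝓝 lam) := by
  obtain ⟨c, hc⟩ := oFun_bdd hF hM
  have hsub : Subadditive (fun n : ℕ => -(oFun hF hM n : ℝ)) := by
    intro m n
    have : ((oFun hF hM m : ℝ) + oFun hF hM n) ≤ oFun hF hM (m + n) := by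
      exact_mod_cast oFun_add hF hM m n
    linarith
  have hbdd : BddBelow (Set.range fun n : ℕ => -(oFun hF hM n : ℝ) / n) := by
    refine ⟨-(c : ℝ), ?_⟩
    rintro _ ⟨n, rfl⟩
    dsimp only
    rcases Nat.eq_zero_or_pos n with rfl | hn
    · simp
    · rw [le_div_iff₀ (by exact_mod_cast hn)]
      have : (oFun hF hM n : ℝ) ≤ c * n := by exact_mod_cast (hc n).2
      linarith
  refine ⟨-hsub.lim, ((hsub.tendsto_lim hbdd).neg).congr fun n => ?_⟩
  rw [neg_div, neg_neg]

omit [Nontrivial N] in
theorem isOrd_compare {M M' : Submodule (WittVector p k) N} {a b : ℤ}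
    (h : M' ≤ pPow a M) (h' : M ≤ pPow b M') {n : ℕ} {r r' : ℤ} (hr : IsOrd M F n r)
    (hr' : IsOrd M' F n r') : r + a + b ≤ r' :=
  isOrd_le hr' <| calc
    latImg F n M' ≤ latImg F n (pPow a M) := latImg_mono _ _ h
    _ = pPow a (latImg F n M) := latImg_pPow _ _ _ _
    _ ≤ pPow a (pPow r M) := pPow_mono _ hr.1
    _ ≤ pPow a (pPow r (pPow b M')) := pPow_mono _ (pPow_mono _ h')
    _ = pPow (r + a + b) M' := by rw [pPow_add, pPow_add]; congr 1; ring

omit [Nontrivial N] in
theorem slope_unique {M₁ M₂ : Submodule (WittVector p k) N}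
    (hM₁ : M₁.IsLattice (FractionRing (WittVector p k)))
    (hM₂ : M₂.IsLattice (FractionRing (WittVector p k)))
    {o₁ o₂ : ℕ → ℤ} (ho₁ : ∀ n : ℕ, 1 ≤ n → IsOrd M₁ F n (o₁ n))
    (ho₂ : ∀ n : ℕ, 1 ≤ n → IsOrd M₂ F n (o₂ n)) {lam₁ lam₂ : ℝ}
    (h₁ : Tendsto (fun n : ℕ => (o₁ n : ℝ) / n) atTop (𝓝 lam₁))
    (h₂ : Tendsto (fun n : ℕ => (o₂ n : ℝ) / n) atTop (𝓝 lam₂)) : lam₁ = lam₂ := by
  obtain ⟨a, ha⟩ := exists_le_pPow_lattice hM₁ hM₂.fg
  obtain ⟨b, hb⟩ := exists_le_pPow_lattice hM₂ hM₁.fg
  have hd : Tendsto (fun n : ℕ => ((a : ℝ) + b) / n) atTop (𝓝 0) :=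
    tendsto_natCast_atTop_atTop.const_div_atTop _
  apply le_antisymm
  · refine le_of_tendsto_of_tendsto (by simpa using h₁.sub hd) h₂
      (eventually_atTop.mpr ⟨1, fun n hn => ?_⟩)
    have := isOrd_compare ha hb (ho₁ n hn) (ho₂ n hn)
    rw [← sub_div]
    refine div_le_div_of_nonneg_right ?_ (by positivity)
    have : ((o₁ n + -(a : ℤ) + -(b : ℤ) : ℤ) : ℝ) ≤ o₂ n := by exact_mod_cast this
    push_cast at this ⊢
    linarith
  · refine le_of_tendsto_of_tendsto (by simpa using h₂.sub hd) h₁
      (eventually_atTop.mpr ⟨1, fun n hn => ?_⟩)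
    have := isOrd_compare hb ha (ho₂ n hn) (ho₁ n hn)
    rw [← sub_div]
    refine div_le_div_of_nonneg_right ?_ (by positivity)
    have : ((o₂ n + -(b : ℤ) + -(a : ℤ) : ℤ) : ℝ) ≤ o₁ n := by exact_mod_cast this
    push_cast at this ⊢
    linarith

/-- The first slope exists. -/
theorem exists_isFirstSlope (hF : IsIsoc F) {M : Submodule (WittVector p k) N}
    (hM : M.IsLattice (FractionRing (WittVector p k))) : ∃ lam : ℝ, IsFirstSlope F lam := by
  obtain ⟨lam, h⟩ := exists_tendsto_oFun hF hM
  exact ⟨lam, M, hM, oFun hF hM, fun n _ => oFun_spec hF hM n, h⟩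

omit [Nontrivial N] in
theorem isFirstSlope_unique {lam lam' : ℝ} (h : IsFirstSlope F lam) (h' : IsFirstSlope F lam') :
    lam = lam' := by
  obtain ⟨M, hM, o, ho, hl⟩ := h
  obtain ⟨M', hM', o', ho', hl'⟩ := h'
  exact slope_unique hM hM' ho ho' hl hl'

/-- An inclusion `F^s M ≤ p^r M` bounds the slope from below. -/
theorem div_le_slope (hF : IsIsoc F) {lam : ℝ} (hlam : IsFirstSlope F lam)
    {M : Submodule (WittVector p k) N} (hM : M.IsLattice (FractionRing (WittVector p k)))
    {r : ℤ} {s : ℕ} (hs : 0 < s) (h : latImg F s M ≤ pPow r M) : (r : ℝ) / s ≤ lam := by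
  obtain ⟨l, hl⟩ := exists_tendsto_oFun hF hM
  obtain ⟨M', hM', o, ho, hl'⟩ := hlam
  obtain rfl : l = lam := slope_unique hM hM' (fun n _ => oFun_spec hF hM n) ho hl hl'
  refine le_of_tendsto_of_tendsto tendsto_const_nhds
    (hl.comp (tendsto_id.const_mul_atTop' hs : Tendsto (fun n : ℕ => s * n) atTop atTop))
    (eventually_atTop.mpr ⟨1, fun n hn => ?_⟩)
  dsimp only [Function.comp]
  have h1 : r * n ≤ oFun hF hM (s * n) := isOrd_le (oFun_spec hF hM _) (latImg_mul_le h n)
  push_cast
  rw [div_le_div_iff₀ (by positivity) (by positivity)]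
  have : ((r * n : ℤ) : ℝ) ≤ oFun hF hM (s * n) := by exact_mod_cast h1
  push_cast at this
  have h0 : (0 : ℝ) ≤ s := by positivity
  nlinarith

/-- An equality `F^s M = p^r M` determines the slope. -/
theorem isFirstSlope_of_eq (hF : IsIsoc F) {M : Submodule (WittVector p k) N}
    (hM : M.IsLattice (FractionRing (WittVector p k)))
    {r : ℤ} {s : ℕ} (hs : 0 < s) (h : latImg F s M = pPow r M) :
    IsFirstSlope F ((r : ℝ) / s) := by
  obtain ⟨l, hl⟩ := exists_tendsto_oFun hF hM
  suffices l = (r : ℝ) / s from this ▸ ⟨M, hM, _, fun n _ => oFun_spec hF hM n, hl⟩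
  have h1 : ∀ n : ℕ, oFun hF hM (s * n) = r * n := by
    intro n
    refine le_antisymm ?_ (isOrd_le (oFun_spec hF hM _) (latImg_mul_eq h n).le)
    have h2 := (oFun_spec hF hM (s * n)).1
    rw [latImg_mul_eq h n, pPow_le_iff, pPow_add] at h2
    have := le_of_le_pPow hM h2
    linarith
  refine tendsto_nhds_unique
    (hl.comp (tendsto_id.const_mul_atTop' hs : Tendsto (fun n : ℕ => s * n) atTop atTop))
    (tendsto_const_nhds.congr' (eventually_atTop.mpr ⟨1, fun n hn => ?_⟩))
  dsimp only [Function.comp]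
  rw [h1]
  push_cast
  have : (n : ℝ) ≠ 0 := by positivity
  field_simp

/-- Every rational below the first slope is attained by some lattice. -/
theorem exists_lattice_of_lt (hF : IsIsoc F) {lam : ℝ} (hlam : IsFirstSlope F lam)
    {r : ℤ} {s : ℕ} (hs : 0 < s) (h : (r : ℝ) / s < lam) :
    ∃ M : Submodule (WittVector p k) N, M.IsLattice (FractionRing (WittVector p k)) ∧
      latImg F s M ≤ pPow r M := by
  obtain ⟨M, hM, o, ho, hl⟩ := hlam
  have h2 := (hl.comp
    (tendsto_id.const_mul_atTop' hs : Tendsto (fun n : ℕ => s * n) atTop atTop)).eventually_const_lt h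
  obtain ⟨n, hn, hn1⟩ := (h2.and (eventually_ge_atTop 1)).exists
  dsimp only [Function.comp] at hn
  have hrn : r * n ≤ o (s * n) := by
    push_cast at hn
    rw [div_lt_div_iff₀ (by positivity) (by positivity)] at hn
    have hpos : (0 : ℝ) < s := by exact_mod_cast hs
    have : ((r * n : ℤ) : ℝ) < o (s * n) := by push_cast; nlinarith
    exact le_of_lt (by exact_mod_cast this)
  have hn' : latImg F (s * n) M ≤ pPow (r * n) M :=
    ((ho (s * n) (Nat.one_le_iff_ne_zero.mpr (by positivity))).1).trans (pPow_anti hrn M)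
  let T : ℕ → Submodule (WittVector p k) N := fun i => pPow (-(r * i)) (latImg F (s * i) M)
  refine ⟨⨆ i : Fin n, T i, ?_, ?_⟩
  · refine isLattice_of_le hM (le_trans ?_ (le_iSup _ (⟨0, hn1⟩ : Fin n)))
      (Submodule.fg_iSup _ fun i => pPow_fg _ (latImg_fg F _ hM.fg))
    simp [T, latImg_zero, pPow_zero]
  · rw [latImg_le_iff]
    intro x hx
    induction hx using Submodule.iSup_induction' with
    | zero => rw [iterate_map_zero]; exact zero_mem _
    | add y z _ _ hy hz => rw [iterate_map_add]; exact add_mem hy hz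
    | mem i x hx =>
      have key : latImg F s (T i) ≤ pPow r (⨆ i : Fin n, T i) := by
        have e : latImg F s (T i) = pPow r (T (i + 1)) := by
          simp only [T]
          rw [latImg_pPow, latImg_latImg, pPow_add, show s + s * i = s * (i + 1) by ring]
          congr 1; push_cast; ring
        rw [e]
        refine pPow_mono _ ?_
        rcases Nat.lt_or_ge (i + 1 : ℕ) n with hi | hi
        · exact le_iSup (fun j : Fin n => T j) ⟨_, hi⟩
        · obtain hin : (i : ℕ) + 1 = n := le_antisymm i.isLt hi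
          refine le_trans ?_ (le_iSup (fun j : Fin n => T j) ⟨0, hn1⟩)
          simp only [T, hin]
          rw [pPow_le_iff]
          simpa [latImg_zero, pPow_zero, pPow_add] using hn'
      exact key (iterate_mem_latImg hx)

omit [Nontrivial N]

/-! ### The determinant -/

section Det

variable {ι : Type*} [Fintype ι] [DecidableEq ι]

/-- The matrix of a semilinear map in a basis. -/
def matF {τ' : FractionRing (WittVector p k) →+* FractionRing (WittVector p k)}
    (b : Module.Basis ι (FractionRing (WittVector p k)) N) (G : N →ₛₗ[τ'] N) :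
    Matrix ι ι (FractionRing (WittVector p k)) :=
  Matrix.of fun i j => b.repr (G (b j)) i

theorem detCoeff_eq {n : ℕ} (b : Module.Basis (Fin n) (FractionRing (WittVector p k)) N) :
    detCoeff b F = (matF b F).det := rfl

theorem repr_apply (b : Module.Basis ι (FractionRing (WittVector p k)) N) (x : N) (i : ι) :
    b.repr (F x) i = ∑ l, matF b F i l * τ (b.repr x l) := by
  conv_lhs => rw [← b.sum_repr x]
  rw [map_sum, map_sum, Finsupp.coe_finsetSum, Finset.sum_apply]
  refine Finset.sum_congr rfl fun l _ => ?_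
  rw [map_smulₛₗ, map_smul, Finsupp.smul_apply, smul_eq_mul, mul_comm]
  rfl

theorem matF_iter_succ (b : Module.Basis ι (FractionRing (WittVector p k)) N) (n : ℕ) :
    matF b (Isoc.iter F (n + 1)) = matF b F * (matF b (Isoc.iter F n)).map τ := by
  ext i j
  rw [Matrix.mul_apply]
  simp only [matF, Matrix.of_apply, Matrix.map_apply, Isoc.iter_apply,
    Function.iterate_succ_apply']
  exact repr_apply b _ i

theorem isOrdP_det_iter (b : Module.Basis ι (FractionRing (WittVector p k)) N) {d : ℤ}
    (hd : IsOrdP (matF b F).det d) (n : ℕ) :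
    IsOrdP (matF b (Isoc.iter F n)).det (n * d) := by
  induction n with
  | zero =>
    have : matF b (Isoc.iter F 0) = 1 := by
      ext i j
      simp [matF, Matrix.one_apply, Finsupp.single_apply, eq_comm]
    rw [this, Matrix.det_one]
    simpa using isOrdP_one
  | succ n ih =>
    rw [matF_iter_succ, Matrix.det_mul, ← RingHom.mapMatrix_apply, ← RingHom.map_det]
    convert isOrdP_mul hd (isOrdP_tau (τ := τ) ih) using 1
    push_cast; ring

theorem det_matF_ne_zero (hF : IsIsoc F)
    (b : Module.Basis ι (FractionRing (WittVector p k)) N) : (matF b F).det ≠ 0 := by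
  choose x hx using fun j => hF.bijective.surjective (b j)
  have h : matF b F * (Matrix.of fun l j => τ (b.repr (x j) l)) = 1 := by
    ext i j
    rw [Matrix.mul_apply]
    simp only [Matrix.of_apply]
    rw [← repr_apply, hx, b.repr_self, Matrix.one_apply, Finsupp.single_apply]
    simp [eq_comm]
  intro h0
  simpa [h0] using congrArg Matrix.det h

theorem exists_isOrdP_det (hF : IsIsoc F)
    (b : Module.Basis ι (FractionRing (WittVector p k)) N) : ∃ d, IsOrdP (matF b F).det d :=
  exists_isOrdP (det_matF_ne_zero hF b)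

/-- Change of basis. -/
theorem isOrdP_det_basis {ι' : Type*} [Fintype ι'] [DecidableEq ι']
    (b : Module.Basis ι (FractionRing (WittVector p k)) N)
    (b' : Module.Basis ι' (FractionRing (WittVector p k)) N) {d : ℤ}
    (hd : IsOrdP (matF b F).det d) : IsOrdP (matF b' F).det d := by
  let e := b.indexEquiv b'
  let c := b'.reindex e.symm
  have hc : (matF b' F).det = (matF c F).det := by
    have : matF c F = (matF b' F).submatrix e e := by
      ext i j
      simp [matF, c]
    rw [this, Matrix.det_submatrix_equiv_self]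
  rw [hc]
  have h : matF c F = c.toMatrix b * matF b F * (b.toMatrix c).map τ := by
    ext i j
    rw [Matrix.mul_assoc, Matrix.mul_apply]
    have h2 : ∀ l, (matF b F * (b.toMatrix c).map τ) l j = b.repr (F (c j)) l := by
      intro l
      rw [repr_apply, Matrix.mul_apply]
      rfl
    simp only [h2]
    simp only [matF, Matrix.of_apply, Module.Basis.toMatrix_apply]
    conv_lhs => rw [← b.sum_repr (F (c j))]
    rw [map_sum, Finsupp.coe_finsetSum, Finset.sum_apply]
    refine Finset.sum_congr rfl fun l _ => ?_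
    rw [map_smul, Finsupp.smul_apply, smul_eq_mul, mul_comm]
  have hp : (c.toMatrix b).det * (b.toMatrix c).det = 1 := by
    rw [← Matrix.det_mul, Module.Basis.toMatrix_mul_toMatrix_flip, Matrix.det_one]
  have hne : (b.toMatrix c).det ≠ 0 := fun h0 => by simp [h0] at hp
  obtain ⟨e1, he1⟩ := exists_isOrdP hne
  obtain ⟨e2, he2⟩ := exists_isOrdP (fun h0 => by simp [h0] at hp :
    (c.toMatrix b).det ≠ 0)
  have hsum : e2 + e1 = 0 := isOrdP_unique (hp ▸ isOrdP_mul he2 he1) isOrdP_one
  rw [h, Matrix.det_mul, Matrix.det_mul, ← RingHom.mapMatrix_apply, ← RingHom.map_det]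
  convert isOrdP_mul (isOrdP_mul he2 hd) (isOrdP_tau (τ := τ) he1) using 1
  omega

/-- The integral matrix of `p^{-r} F^s` in a basis of a lattice `M` with `F^s M ≤ p^r M`. -/
theorem exists_intMatrix {M : Submodule (WittVector p k) N}
    (hM : M.IsLattice (FractionRing (WittVector p k))) {r : ℤ} {s : ℕ}
    (h : latImg F s M ≤ pPow r M) :
    ∃ C : Matrix _ _ (WittVector p k),
      matF (latBasis hM) (Isoc.iter F s) = pi p k r • C.map (algebraMap _ _) := by
  have : ∀ i j, ∃ w : WittVector p k, algebraMap _ (FractionRing (WittVector p k)) w =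
      (latBasis hM).repr (pi p k (-r) • (⇑F)^[s] (latBasis hM j)) i := fun i j =>
    (mem_lattice_iff hM).mp (mem_pPow.mp (h (iterate_mem_latImg (latBasis_mem hM j)))) i
  choose C hC using this
  refine ⟨Matrix.of C, ?_⟩
  ext i j
  rw [Matrix.smul_apply, Matrix.map_apply, Matrix.of_apply, hC, map_smul, Finsupp.smul_apply,
    smul_eq_mul, smul_eq_mul, ← mul_assoc, ← pi_add, add_neg_cancel]
  simp [matF, pi]

variable {h : ℕ} (b : Module.Basis (Fin h) (FractionRing (WittVector p k)) N) {d : ℤ}

theorem card_latBasis {M : Submodule (WittVector p k) N}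
    (hM : M.IsLattice (FractionRing (WittVector p k)))
    (b : Module.Basis (Fin h) (FractionRing (WittVector p k)) N) :
    Module.finrank (WittVector p k) M = h := by
  simpa using (Fintype.card_congr ((latBasis hM).indexEquiv b))

theorem isOrdP_intMatrix_det (hd : IsOrdP (detCoeff b F) d) {M : Submodule (WittVector p k) N}
    (hM : M.IsLattice (FractionRing (WittVector p k))) {r : ℤ} {s : ℕ}
    {C : Matrix _ _ (WittVector p k)}
    (hC : matF (latBasis hM) (Isoc.iter F s) = pi p k r • C.map (algebraMap _ _)) :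
    IsOrdP (algebraMap (WittVector p k) (FractionRing (WittVector p k)) C.det)
      (s * d - r * h) := by
  have h2 := isOrdP_det_iter (F := F) (latBasis hM) (isOrdP_det_basis b (latBasis hM) hd) s
  rw [hC, Matrix.det_smul, Fintype.card_fin, ← RingHom.mapMatrix_apply, ← RingHom.map_det,
    ← zpow_natCast, ← zpow_mul] at h2
  have hdet : algebraMap (WittVector p k) (FractionRing (WittVector p k)) C.det ≠ 0 := fun h0 =>
    isOrdP_ne_zero h2 (by rw [h0, mul_zero])
  obtain ⟨e, he⟩ := exists_isOrdP hdet
  have h3 := isOrdP_unique h2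
    (isOrdP_mul (isOrdP_pi (p := p) (k := k) (r * (Module.finrank (WittVector p k) M : ℤ))) he)
  have hcard : ((Module.finrank (WittVector p k) M : ℕ) : ℤ) = (h : ℤ) := by
    exact_mod_cast card_latBasis hM b
  rw [hcard] at h3
  convert he using 1
  omega

/-- `F^s M ≤ p^r M` forces `r h ≤ s d`. -/
theorem mul_le_det (hd : IsOrdP (detCoeff b F) d) {M : Submodule (WittVector p k) N}
    (hM : M.IsLattice (FractionRing (WittVector p k))) {r : ℤ} {s : ℕ}
    (h1 : latImg F s M ≤ pPow r M) : r * h ≤ s * d := by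
  obtain ⟨C, hC⟩ := exists_intMatrix hM h1
  have := isOrdP_nonneg (isOrdP_intMatrix_det b hd hM hC)
  omega

/-- `F^s M = p^r M` forces `r h = s d`. -/
theorem mul_eq_det (hd : IsOrdP (detCoeff b F) d) {M : Submodule (WittVector p k) N}
    (hM : M.IsLattice (FractionRing (WittVector p k))) {r : ℤ} {s : ℕ}
    (h1 : latImg F s M = pPow r M) : r * h = s * d := by
  obtain ⟨C, hC⟩ := exists_intMatrix hM h1.le
  suffices hu : IsUnit C.det by
    obtain ⟨u, hu⟩ := hu
    have h2 := isOrdP_intMatrix_det b hd hM hC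
    rw [← hu] at h2
    have := isOrdP_unique h2 (isOrdP_unit u)
    omega
  have : ∀ j, ∃ x ∈ M, (⇑F)^[s] x = pi p k r • latBasis hM j := fun j =>
    mem_latImg.mp (h1 ▸ smul_mem_pPow (latBasis_mem hM j))
  choose x hx hFx using this
  have : ∀ l j, ∃ w : WittVector p k, algebraMap _ (FractionRing (WittVector p k)) w =
      (latBasis hM).repr (x j) l := fun l j => (mem_lattice_iff hM).mp (hx j) l
  choose D hD using this
  obtain ⟨σs, hσs⟩ := (inferInstance : Good (τ ^ s)).out
  have hmul : C * (Matrix.of D).map σs = 1 := by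
    refine Matrix.ext fun i j => ?_
    apply IsFractionRing.injective (WittVector p k) (FractionRing (WittVector p k))
    apply mul_left_cancel₀ (pi_ne_zero (p := p) (k := k) r)
    have h3 : (latBasis hM).repr (Isoc.iter F s (x j)) i =
        ∑ l, matF (latBasis hM) (Isoc.iter F s) i l * (τ ^ s) ((latBasis hM).repr (x j) l) :=
      repr_apply (F := Isoc.iter F s) _ _ _
    rw [Isoc.iter_apply, hFx, map_smul, Finsupp.smul_apply, smul_eq_mul,
      Module.Basis.repr_self, hC] at h3
    rw [Matrix.mul_apply, map_sum, Finset.mul_sum]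
    rw [Matrix.one_apply, apply_ite (algebraMap (WittVector p k) (FractionRing (WittVector p k))),
      map_one, map_zero]
    rw [Finsupp.single_apply] at h3
    simp only [eq_comm (a := j) (b := i)] at h3
    rw [h3]
    refine Finset.sum_congr rfl fun l _ => ?_
    simp only [Matrix.smul_apply, Matrix.map_apply, Matrix.of_apply, smul_eq_mul, map_mul]
    rw [← hD, hσs]
    ring
  exact IsUnit.of_mul_eq_one _ (by rw [← Matrix.det_mul, hmul, Matrix.det_one])

/-- `F^s M ≤ p^r M` with `r h = s d` forces equality. -/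
theorem eq_of_det (hd : IsOrdP (detCoeff b F) d) {M : Submodule (WittVector p k) N}
    (hM : M.IsLattice (FractionRing (WittVector p k))) {r : ℤ} {s : ℕ}
    (h1 : latImg F s M ≤ pPow r M) (h3 : r * h = s * d) : latImg F s M = pPow r M := by
  refine le_antisymm h1 ?_
  obtain ⟨C, hC⟩ := exists_intMatrix hM h1
  have he := isOrdP_intMatrix_det b hd hM hC
  rw [show (s : ℤ) * d - r * h = 0 by omega] at he
  obtain ⟨u, hu⟩ := he
  have hCu : IsUnit C.det := ⟨u, IsFractionRing.injective _ (FractionRing (WittVector p k))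
    (by rw [hu]; simp)⟩
  have hinv := Matrix.mul_nonsing_inv C hCu
  intro y hy
  rw [mem_pPow] at hy
  have hy' := (mem_lattice_iff hM).mp hy
  choose w hw using hy'
  have key : ∀ j, pi p k r • latBasis hM j ∈ latImg F s M := by
    intro j
    have e : pi p k r • latBasis hM j = ∑ l, (C⁻¹ l j) • (⇑F)^[s] (latBasis hM l) := by
      apply (latBasis hM).ext_elem
      intro i
      simp only [← algebraMap_smul (FractionRing (WittVector p k)) (C⁻¹ _ j), map_sum, map_smul,
        Finsupp.coe_finsetSum, Finset.sum_apply, Finsupp.smul_apply, smul_eq_mul,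
        Module.Basis.repr_self]
      have : ∀ l, (latBasis hM).repr ((⇑F)^[s] (latBasis hM l)) i =
          pi p k r * algebraMap _ _ (C i l) := fun l => by
        simpa [matF, Matrix.smul_apply] using congrFun (congrFun hC i) l
      simp only [this]
      have h4 : ∑ l, algebraMap _ (FractionRing (WittVector p k)) (C i l * C⁻¹ l j) =
          algebraMap _ _ ((1 : Matrix _ _ (WittVector p k)) i j) := by
        rw [← map_sum, ← Matrix.mul_apply, hinv]
      rw [Matrix.one_apply] at h4
      rw [Finsupp.single_apply]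
      trans pi p k r * ∑ l, algebraMap _ (FractionRing (WittVector p k)) (C i l * C⁻¹ l j)
      · rw [h4]
        rcases eq_or_ne i j with rfl | hij
        · simp
        · simp [hij, Ne.symm hij]
      · rw [Finset.mul_sum]
        refine Finset.sum_congr rfl fun l _ => ?_
        rw [map_mul]; ring
    rw [e]
    exact Submodule.sum_mem _ fun l _ => Submodule.smul_mem _ _
      (iterate_mem_latImg (latBasis_mem hM l))
  have : y = ∑ j, w j • (pi p k r • latBasis hM j) := by
    have h5 := congrArg (fun z => pi p k r • z) ((latBasis hM).sum_repr (pi p k (-r) • y))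
    simp only [smul_smul, ← pi_add, add_neg_cancel, Finset.smul_sum] at h5
    rw [show pi p k 0 = 1 from zpow_zero _, one_smul] at h5
    conv_lhs => rw [← h5]
    refine Finset.sum_congr rfl fun j _ => ?_
    rw [← algebraMap_smul (FractionRing (WittVector p k)) (w j), hw, smul_smul, mul_comm]
  rw [this]
  exact Submodule.sum_mem _ fun j _ => Submodule.smul_mem _ _ (key j)

end Det

end Groth.Agent.IsocLib

end
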