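import Groth.Agent.IsocLib.Ord
import Groth.Agent.IsocLib.Pieces
import Mathlib.LinearAlgebra.StdBasis

/-!
# The standard isocrystals
-/

set_option autoImplicit false
set_option linter.unusedSectionVars false

noncomputable section

open scoped Pointwise
open Isoc

universe u

namespace Groth.Agent.IsocLib

variable {p : ℕ} [Fact p.Prime] {k : Type u} [Field k] [CharP k p]
variable {τ : FractionRing (WittVector p k) →+* FractionRing (WittVector p k)}

theorem stdIsoc_single (d : ℤ) {h : ℕ} (j : Fin h) :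
    stdIsoc τ d h (Pi.single j 1) =
      Pi.single (finRotate h j) (if (finRotate h j).val = 0 then pi p k d else 1) := by
  funext i
  rw [stdIsoc_apply]
  by_cases hi : i = finRotate h j
  · subst hi
    rw [Equiv.symm_apply_apply, Pi.single_eq_same, Pi.single_eq_same, map_one, mul_one]
  · rw [Pi.single_eq_of_ne hi, Pi.single_eq_of_ne (fun hc => hi (by rw [← hc, Equiv.apply_symm_apply])),
      map_zero, mul_zero]

theorem stdIsoc_iterate_zero (d : ℤ) {h : ℕ} (hh : 0 < h) (i : Fin h) :
    (⇑(stdIsoc τ d h))^[(i : ℕ)] (Pi.single ⟨0, hh⟩ 1) = Pi.single i 1 := by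
  obtain ⟨i, hi⟩ := i
  induction i with
  | zero => rfl
  | succ i ih =>
    dsimp only at ih ⊢
    rw [Function.iterate_succ_apply', ih (by omega), stdIsoc_single]
    obtain ⟨h', rfl⟩ : ∃ h', h = h' + 1 := ⟨h - 1, by omega⟩
    have : finRotate (h' + 1) ⟨i, by omega⟩ = ⟨i + 1, hi⟩ := by
      rw [finRotate_of_lt (show i < h' by omega)]
    rw [this]
    simp

theorem stdIsoc_iterate_self (d : ℤ) {h : ℕ} (hh : 0 < h) (i : Fin h) :
    (⇑(stdIsoc τ d h))^[h] (Pi.single i 1) = pi p k d • Pi.single i 1 := by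
  have h0 : (⇑(stdIsoc τ d h))^[h] (Pi.single ⟨0, hh⟩ 1) = pi p k d • Pi.single ⟨0, hh⟩ 1 := by
    obtain ⟨h', rfl⟩ : ∃ h', h = h' + 1 := ⟨h - 1, by omega⟩
    rw [Function.iterate_succ_apply',
      show (⇑(stdIsoc τ d (h' + 1)))^[h'] (Pi.single ⟨0, hh⟩ 1) = Pi.single (Fin.last h') 1 from
        stdIsoc_iterate_zero d hh (Fin.last h'), stdIsoc_single, finRotate_last,
      ← Pi.single_smul]
    simp
  rw [← stdIsoc_iterate_zero d hh i, ← Function.iterate_add_apply, add_comm,
    Function.iterate_add_apply, h0, iterate_smul_pi]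

variable [Good τ]

theorem isIsoc_stdIsoc (d : ℤ) (h : ℕ) : IsIsoc (stdIsoc τ d h) := by
  have hc : ∀ i : Fin h, (if i.val = 0 then (p : FractionRing (WittVector p k)) ^ d else 1) ≠ 0 :=
    fun i => by split_ifs; exacts [pi_ne_zero d, one_ne_zero]
  refine ⟨inferInstance, fun x y hxy => funext fun j => ?_, fun y => ?_⟩
  · have := congrFun hxy (finRotate h j)
    rw [stdIsoc_apply, stdIsoc_apply, Equiv.symm_apply_apply] at this
    exact τ.injective (mul_left_cancel₀ (hc _) this)
  · choose z hz using fun i : Fin h => tau_surjective (τ := τ)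
      (y i / (if i.val = 0 then (p : FractionRing (WittVector p k)) ^ d else 1))
    refine ⟨fun j => z (finRotate h j), funext fun i => ?_⟩
    rw [stdIsoc_apply, Equiv.apply_symm_apply, hz, mul_div_cancel₀ _ (hc i)]

theorem isIsoclinic_stdIsoc (d : ℤ) {h : ℕ} (hh : 0 < h) :
    IsIsoclinic (stdIsoc τ d h) ((d : ℚ) / h) := by
  let b := Pi.basisFun (FractionRing (WittVector p k)) (Fin h)
  refine ⟨Submodule.span (WittVector p k) (Set.range b),
    ⟨Submodule.fg_span (Set.finite_range b), by rw [Submodule.span_span_of_tower, b.span_eq]⟩,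
    d, h, hh, rfl, ?_⟩
  have hb : ∀ i, (⇑(stdIsoc τ d h))^[h] (b i) = pi p k d • b i := fun i => by
    simpa [b] using stdIsoc_iterate_self (τ := τ) d hh i
  refine le_antisymm (latImg_le_iff.mpr fun x hx => ?_) fun y hy => ?_
  · induction hx using Submodule.span_induction with
    | mem z hz =>
      obtain ⟨i, rfl⟩ := hz
      rw [hb]
      exact smul_mem_pPow (Submodule.subset_span ⟨i, rfl⟩)
    | zero => rw [iterate_map_zero]; exact zero_mem _
    | add u v _ _ hu hv => rw [iterate_map_add]; exact add_mem hu hv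
    | smul w u _ hu => rw [iterate_wsmul]; exact Submodule.smul_mem _ _ hu
  · have key : ∀ x ∈ Submodule.span (WittVector p k) (Set.range b),
        pi p k d • x ∈ latImg (stdIsoc τ d h) h (Submodule.span (WittVector p k) (Set.range b)) := by
      intro x hx
      induction hx using Submodule.span_induction with
      | mem z hz =>
        obtain ⟨i, rfl⟩ := hz
        rw [← hb]
        exact iterate_mem_latImg (Submodule.subset_span ⟨i, rfl⟩)
      | zero => rw [smul_zero]; exact zero_mem _
      | add u v _ _ hu hv => rw [smul_add]; exact add_mem hu hv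
      | smul w u _ hu => rw [smul_comm]; exact Submodule.smul_mem _ _ hu
    have := key _ (mem_pPow.mp hy)
    rwa [smul_smul, ← pi_add, add_neg_cancel, show pi p k 0 = 1 from zpow_zero _, one_smul] at this

variable [PerfectRing k p]

theorem stdIsoc_simple (d : ℤ) {h : ℕ} (hh : 0 < h) (hdh : Int.gcd d h = 1)
    (P : Submodule (FractionRing (WittVector p k)) (Fin h → FractionRing (WittVector p k)))
    (hP : ∀ x ∈ P, stdIsoc τ d h x ∈ P) : P = ⊥ ∨ P = ⊤ := by
  have hF := isIsoc_stdIsoc (τ := τ) d h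
  have hiso := (isIsoclinic_restrict_iff hP).mpr (isoIn_stable hF hP le_top
    (isoIn_top_iff.mpr (isIsoclinic_stdIsoc d hh)))
  have hFP := isIsoc_restrict hF hP
  let b := Module.finBasis (FractionRing (WittVector p k)) P
  obtain ⟨d', hd'⟩ := exists_isOrdP_det hFP b
  obtain ⟨M, hM, r, s, hs, hrs, hFM⟩ := hiso
  have h1 := mul_eq_det b hd' hM hFM
  rw [div_eq_div_iff (by exact_mod_cast hs.ne') (by exact_mod_cast hh.ne')] at hrs
  have h2 : r * (h : ℤ) = d * s := by exact_mod_cast hrs
  set g := Module.finrank (FractionRing (WittVector p k)) P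
  have h3 : d * (g : ℤ) = (h : ℤ) * d' := by
    refine mul_left_cancel₀ (show ((s : ℕ) : ℤ) ≠ 0 by omega) ?_
    linear_combination (h : ℤ) * h1 - (g : ℤ) * h2
  have h4 : (h : ℤ) ∣ (g : ℤ) :=
    Int.dvd_of_dvd_mul_right_of_gcd_one ⟨d', h3⟩ (by rwa [Int.gcd_comm])
  have h5 : g ≤ h := by
    simpa using Submodule.finrank_le P
  rcases Nat.eq_zero_or_pos g with hg | hg
  · exact Or.inl (Submodule.finrank_eq_zero.mp hg)
  · refine Or.inr (Submodule.eq_top_of_finrank_eq ?_)
    have := Nat.le_of_dvd hg (Int.natCast_dvd_natCast.mp h4)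
    rw [Module.finrank_fin_fun]
    omega

end Groth.Agent.IsocLib

end
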