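import Groth.Agent.IsocLib.Decomp
import Groth.Agent.IsocLib.Std
import Groth.Agent.IsocLib.LangK
import Groth.Agent.IsocLib.FiniteField
import Mathlib.LinearAlgebra.Dimension.Constructions

/-!
# Isocrystals over an algebraically closed field are sums of standard ones
-/

set_option autoImplicit false
set_option linter.unusedSectionVars false

noncomputable section

open scoped Pointwise
open Isoc

universe u v

namespace Groth.Agent.IsocLib

variable {p : ℕ} [Fact p.Prime] {k : Type u} [Field k] [CharP k p] [PerfectRing k p]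
variable {N : Type v} [AddCommGroup N] [Module (WittVector p k) N]
  [Module (FractionRing (WittVector p k)) N]
  [IsScalarTower (WittVector p k) (FractionRing (WittVector p k)) N]

theorem constantCoeff_frobeniusEquiv_pow (n : ℕ) (w : WittVector p k) :
    WittVector.constantCoeff ((WittVector.frobeniusEquiv p k ^ n) w) =
      WittVector.constantCoeff w ^ p ^ n := by
  rw [frobeniusEquiv_pow_apply, WittVector.constantCoeff_apply, WittVector.iterate_frobenius_coeff,
    WittVector.constantCoeff_apply]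

theorem exists_fixed_matrix_zpow [IsAlgClosed k] {ι : Type*} [Fintype ι] [DecidableEq ι] {z : ℤ}
    (hz : z ≠ 0) (C : Matrix ι ι (WittVector p k)) (hC : IsUnit C.det) :
    ∃ U : Matrix ι ι (WittVector p k), IsUnit U.det ∧
      ∀ j, C.mulVec (fun i => (WittVector.frobeniusEquiv p k ^ z) (U i j)) = fun i => U i j := by
  rcases lt_or_gt_of_ne hz with hneg | hpos
  · obtain ⟨n, hn, rfl⟩ : ∃ n : ℕ, 0 < n ∧ z = -(n : ℤ) := ⟨(-z).toNat, by omega, by omega⟩
    set σ' := WittVector.frobeniusEquiv p k ^ n with hσ'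
    have hC' : IsUnit ((C⁻¹).map σ').det := by
      have : ((C⁻¹).map σ').det = σ' C⁻¹.det := (RingHom.map_det σ'.toRingHom C⁻¹).symm
      rw [this]
      exact (C.isUnit_nonsing_inv_det hC).map σ'
    obtain ⟨U, hU, hUC⟩ := exists_fixed_matrix σ' hn (constantCoeff_frobeniusEquiv_pow n) _ hC'
    refine ⟨U, hU, fun j => ?_⟩
    have h1 : ∀ i, σ' ((C⁻¹).mulVec (fun l => U l j) i) = U i j := fun i => by
      conv_rhs => rw [← congrFun (hUC j) i]
      exact RingHom.map_mulVec σ'.toRingHom C⁻¹ _ i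
    have h2 : (fun i => (WittVector.frobeniusEquiv p k ^ (-(n : ℤ))) (U i j)) =
        (C⁻¹).mulVec (fun l => U l j) := by
      funext i
      rw [zpow_neg, zpow_natCast, ← hσ']
      conv_lhs => rw [← h1 i]
      exact σ'.symm_apply_apply _
    rw [h2, Matrix.mulVec_mulVec, Matrix.mul_nonsing_inv C hC, Matrix.one_mulVec]
  · obtain ⟨n, rfl⟩ := Int.eq_ofNat_of_zero_le hpos.le
    rw [zpow_natCast]
    exact exists_fixed_matrix _ (by omega) (constantCoeff_frobeniusEquiv_pow n) C hC

variable {a : ℤ} {F : N →ₛₗ[Isoc.frob p k a] N}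

theorem frob_pow_algebraMap (a : ℤ) (n : ℕ) (w : WittVector p k) :
    (Isoc.frob p k a ^ n) (algebraMap _ (FractionRing (WittVector p k)) w) =
      algebraMap _ _ ((WittVector.frobeniusEquiv p k ^ (a * n)) w) := by
  rw [RingHom.coe_pow, iterate_frob, ← zpow_natCast, ← zpow_mul]

/-- On an isoclinic isocrystal of slope `num/den` the fixed vectors of `p^{-num} F^den` span. -/
theorem span_fixed_of_isoclinic [IsAlgClosed k] (ha : a ≠ 0) (hF : IsIsoc F) {μ : ℚ}
    (hμ : IsIsoclinic F μ) :
    Submodule.span (FractionRing (WittVector p k))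
      {x : N | (⇑F)^[μ.den] x = pi p k μ.num • x} = ⊤ := by
  classical
  rcases subsingleton_or_nontrivial N with hN | hN
  · exact Subsingleton.elim _ _
  haveI := hF.finite
  obtain ⟨M₀, hM₀, r, s, hs, hrs, hFM₀⟩ := hμ
  have hlam := isFirstSlope_of_eq hF hM₀ hs hFM₀
  have hμr : (μ.num : ℝ) / μ.den = (r : ℝ) / s := by
    have h1 : ((μ.num : ℚ) / μ.den) = (r : ℚ) / s := by rw [μ.num_div_den, hrs]
    exact_mod_cast congrArg (fun x : ℚ => (x : ℝ)) h1
  obtain ⟨M, hM, hle⟩ := exists_lattice_of_le_slope hF hlam μ.den_pos hμr.le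
  set b := latBasis hM
  obtain ⟨d, hd⟩ := exists_isOrdP_det hF b
  have hr0 := mul_eq_det b hd hM₀ hFM₀
  have hcross : μ.num * (s : ℤ) = r * μ.den := by
    rw [div_eq_div_iff (by exact_mod_cast μ.den_pos.ne') (by exact_mod_cast hs.ne')] at hμr
    exact_mod_cast hμr
  have hd0 : μ.num * (Module.finrank (WittVector p k) M : ℤ) = (μ.den : ℤ) * d := by
    refine mul_left_cancel₀ (show (s : ℤ) ≠ 0 by omega) ?_
    linear_combination (Module.finrank (WittVector p k) M : ℤ) * hcross + (μ.den : ℤ) * hr0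
  obtain ⟨C, hC⟩ := exists_intMatrix hM hle
  have hCu : IsUnit C.det := by
    have h2 := isOrdP_intMatrix_det b hd hM hC
    rw [show (μ.den : ℤ) * d - μ.num * (Module.finrank (WittVector p k) M) = 0 by omega] at h2
    obtain ⟨u, hu⟩ := h2
    exact ⟨u, IsFractionRing.injective _ (FractionRing (WittVector p k)) (by rw [hu]; simp)⟩
  have hz : a * (μ.den : ℤ) ≠ 0 := mul_ne_zero ha (by exact_mod_cast μ.den_pos.ne')
  obtain ⟨U, hU, hUC⟩ := exists_fixed_matrix_zpow hz C hCu
  let x : _ → N := fun j => ∑ i, U i j • b i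
  have hfix : ∀ j, (⇑F)^[μ.den] (x j) = pi p k μ.num • x j := by
    intro j
    apply b.ext_elem
    intro l
    have h1 : ∀ i, b.repr (x j) i = algebraMap _ _ (U i j) := fun i => by
      simp only [x, map_sum, Finsupp.coe_finsetSum, Finset.sum_apply]
      rw [Finset.sum_eq_single i]
      · rw [← algebraMap_smul (FractionRing (WittVector p k)) (U i j), map_smul, Finsupp.smul_apply,
          Module.Basis.repr_self, Finsupp.single_eq_same, smul_eq_mul, mul_one]
      · intro l _ hl
        rw [← algebraMap_smul (FractionRing (WittVector p k)) (U l j), map_smul, Finsupp.smul_apply,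
          Module.Basis.repr_self, Finsupp.single_eq_of_ne (Ne.symm hl), smul_zero]
      · exact fun hc => absurd (Finset.mem_univ _) hc
    have h2 : b.repr (Isoc.iter F μ.den (x j)) l =
        ∑ i, matF b (Isoc.iter F μ.den) l i * (Isoc.frob p k a ^ μ.den) (b.repr (x j) i) :=
      repr_apply (F := Isoc.iter F μ.den) b _ _
    rw [Isoc.iter_apply] at h2
    rw [h2, map_smul, Finsupp.smul_apply, smul_eq_mul, h1, ← congrFun (hUC j) l]
    have hC' : matF b (Isoc.iter F μ.den) = pi p k μ.num • C.map (algebraMap _ _) := hC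
    rw [hC']
    simp only [h1, frob_pow_algebraMap, Matrix.smul_apply, Matrix.map_apply, smul_eq_mul,
      Matrix.mulVec, dotProduct, map_sum, map_mul, Finset.mul_sum]
    exact Finset.sum_congr rfl fun i _ => by ring
  rw [eq_top_iff, ← b.span_eq, Submodule.span_le]
  rintro _ ⟨i, rfl⟩
  have hb : b i = ∑ j, U⁻¹ j i • x j := by
    simp only [x, Finset.smul_sum, smul_smul]
    rw [Finset.sum_comm]
    simp only [← Finset.sum_smul]
    have h1 : ∀ l, ∑ j, U⁻¹ j i * U l j = (1 : Matrix _ _ (WittVector p k)) l i := fun l => by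
      rw [← Matrix.mul_nonsing_inv U hU, Matrix.mul_apply]
      exact Finset.sum_congr rfl fun j _ => mul_comm _ _
    simp only [h1, Matrix.one_apply, ite_smul, one_smul, zero_smul, Finset.sum_ite_eq',
      Finset.mem_univ, if_true]
  rw [hb]
  refine Submodule.sum_mem _ fun j _ => ?_
  rw [← algebraMap_smul (FractionRing (WittVector p k)) (U⁻¹ j i)]
  exact Submodule.smul_mem _ _ (Submodule.subset_span (hfix j))

variable (F) in
/-- The map from the standard isocrystal attached to a vector. -/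
def stdMap (x : N) (h : ℕ) :
    (Fin h → FractionRing (WittVector p k)) →ₗ[FractionRing (WittVector p k)] N :=
  Fintype.linearCombination (FractionRing (WittVector p k)) fun i : Fin h => (⇑F)^[(i : ℕ)] x

theorem stdMap_single (x : N) {h : ℕ} (i : Fin h) :
    stdMap F x h (Pi.single i 1) = (⇑F)^[(i : ℕ)] x := by
  simp [stdMap, Fintype.linearCombination_apply_single]

theorem stdMap_comm (x : N) {h : ℕ} {d : ℤ} (hh : 0 < h) (hx : (⇑F)^[h] x = pi p k d • x)
    (y : Fin h → FractionRing (WittVector p k)) :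
    stdMap F x h (stdIsoc (Isoc.frob p k a) d h y) = F (stdMap F x h y) := by
  suffices (stdMap F x h).comp (stdIsoc (Isoc.frob p k a) d h) = F.comp (stdMap F x h) from
    LinearMap.congr_fun this y
  refine (Pi.basisFun (FractionRing (WittVector p k)) (Fin h)).ext fun i => ?_
  simp only [Pi.basisFun_apply, LinearMap.comp_apply, stdIsoc_single, stdMap_single,
    ← Function.iterate_succ_apply' (⇑F)]
  obtain ⟨h', rfl⟩ : ∃ h', h = h' + 1 := ⟨h - 1, by omega⟩
  rcases Nat.lt_or_ge (i : ℕ) h' with hi | hi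
  · have : finRotate (h' + 1) i = ⟨i + 1, by omega⟩ := by
      conv_lhs => rw [show i = ⟨(i : ℕ), i.isLt⟩ from rfl]
      rw [finRotate_of_lt hi]
    rw [this, if_neg (by simp), stdMap_single]
  · have hi' : i = Fin.last h' := Fin.ext (le_antisymm (Nat.lt_succ_iff.mp i.isLt) hi)
    subst hi'
    rw [finRotate_last, if_pos (by simp),
      show (Pi.single (0 : Fin (h' + 1)) (pi p k d) : Fin (h' + 1) → _) =
        pi p k d • Pi.single 0 1 by rw [← Pi.single_smul, smul_eq_mul, mul_one],
      map_smul, stdMap_single, Fin.val_last, Nat.succ_eq_add_one, hx]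
    rfl

theorem stdMap_injective (hF : IsIsoc F) {x : N} (hx0 : x ≠ 0) {μ : ℚ}
    (hx : (⇑F)^[μ.den] x = pi p k μ.num • x) : Function.Injective (stdMap F x μ.den) := by
  rw [← LinearMap.ker_eq_bot]
  refine (stdIsoc_simple (τ := Isoc.frob p k a) μ.num μ.den_pos μ.reduced _ fun y hy => ?_).resolve_right
    fun htop => hx0 ?_
  · rw [LinearMap.mem_ker] at hy ⊢
    rw [stdMap_comm x μ.den_pos hx, hy, map_zero]
  · have h1 := stdMap_single (F := F) x (⟨0, μ.den_pos⟩ : Fin μ.den)
    rw [LinearMap.ker_eq_top.mp htop] at h1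
    simpa using h1.symm

theorem slopePart_le_span_fixed [IsAlgClosed k] (ha : a ≠ 0) (hF : IsIsoc F) (μ : ℚ) :
    slopePart F μ ≤ Submodule.span (FractionRing (WittVector p k))
      {x : N | (⇑F)^[μ.den] x = pi p k μ.num • x} := by
  haveI := hF.finite
  obtain ⟨hP, h⟩ := slopePart_spec F μ
  have h1 := span_fixed_of_isoclinic ha (isIsoc_restrict hF hP)
    ((isIsoclinic_restrict_iff hP).mpr h)
  intro x hx
  have h2 : x ∈ (⊤ : Submodule (FractionRing (WittVector p k)) (slopePart F μ)).map
      (slopePart F μ).subtype := by rwa [Submodule.map_subtype_top]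
  rw [← h1, Submodule.map_span] at h2
  refine Submodule.span_mono ?_ h2
  rintro _ ⟨y, hy, rfl⟩
  show (⇑F)^[μ.den] (y : N) = _
  rw [← ((Function.Semiconj.iterate_right (f := Subtype.val)
    (ga := ⇑(F.restrict hP)) (gb := ⇑F) (fun y => rfl) μ.den).eq y), hy]
  rfl

/-- A stable subspace not everything misses some fixed vector. -/
theorem exists_fixed_notMem [IsAlgClosed k] (ha : a ≠ 0) (hF : IsIsoc F)
    {Q : Submodule (FractionRing (WittVector p k)) N} (hQ : Q ≠ ⊤) :
    ∃ (μ : ℚ) (x : N), (⇑F)^[μ.den] x = pi p k μ.num • x ∧ x ∉ Q := by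
  by_contra hc
  push Not at hc
  refine hQ (top_le_iff.mp ((iSup_slopePart hF).ge.trans (iSup_le fun μ => ?_)))
  exact (slopePart_le_span_fixed ha hF μ).trans (Submodule.span_le.mpr fun x hx => hc μ x hx)

theorem range_stdMap_inf_eq_bot {x : N} {μ : ℚ}
    (hx : (⇑F)^[μ.den] x = pi p k μ.num • x)
    {R : Submodule (FractionRing (WittVector p k)) N} (hR : ∀ y ∈ R, F y ∈ R) (hxR : x ∉ R) :
    LinearMap.range (stdMap F x μ.den) ⊓ R = ⊥ := by
  rcases stdIsoc_simple (τ := Isoc.frob p k a) μ.num μ.den_pos μ.reduced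
    (R.comap (stdMap F x μ.den)) (fun y hy => by
      rw [Submodule.mem_comap] at hy ⊢
      rw [stdMap_comm x μ.den_pos hx]
      exact hR _ hy) with h | h
  · rw [eq_bot_iff]
    rintro _ ⟨⟨y, rfl⟩, hy⟩
    have : y ∈ R.comap (stdMap F x μ.den) := hy
    rw [h, Submodule.mem_bot] at this
    simp [this]
  · refine absurd ?_ hxR
    have : Pi.single (⟨0, μ.den_pos⟩ : Fin μ.den) 1 ∈ R.comap (stdMap F x μ.den) := by
      rw [h]; trivial
    simpa [stdMap_single] using this

/-- Stable subspaces have stable complements. -/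
theorem exists_compl [IsAlgClosed k] (ha : a ≠ 0) (hF : IsIsoc F)
    (P : Submodule (FractionRing (WittVector p k)) N) (hP : ∀ x ∈ P, F x ∈ P) :
    ∃ Q : Submodule (FractionRing (WittVector p k)) N, (∀ x ∈ Q, F x ∈ Q) ∧ IsCompl P Q := by
  haveI := hF.finite
  obtain ⟨Q, ⟨hQ, hPQ⟩, hmax⟩ := wellFounded_gt.has_min
    {Q : Submodule (FractionRing (WittVector p k)) N | (∀ x ∈ Q, F x ∈ Q) ∧ Disjoint P Q}
    ⟨⊥, by simp, disjoint_bot_right⟩
  refine ⟨Q, hQ, hPQ, codisjoint_iff.mpr ?_⟩
  by_contra hne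
  obtain ⟨μ, x, hx, hxR⟩ := exists_fixed_notMem ha hF hne
  have hRs : ∀ y ∈ P ⊔ Q, F y ∈ P ⊔ Q := fun y hy => by
    obtain ⟨u, hu, v, hv, rfl⟩ := Submodule.mem_sup.mp hy
    rw [map_add]
    exact Submodule.add_mem_sup (hP u hu) (hQ v hv)
  have hS := range_stdMap_inf_eq_bot hx hRs hxR
  set S := LinearMap.range (stdMap F x μ.den)
  have hxS : x ∈ S := ⟨Pi.single ⟨0, μ.den_pos⟩ 1, by simp [stdMap_single]⟩
  refine hmax (Q ⊔ S) ⟨fun y hy => ?_, ?_⟩ (lt_of_le_of_ne le_sup_left fun he =>
    hxR (Submodule.mem_sup_right (he.symm ▸ Submodule.mem_sup_right hxS)))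
  · obtain ⟨u, hu, v, ⟨z, rfl⟩, rfl⟩ := Submodule.mem_sup.mp hy
    rw [map_add, ← stdMap_comm x μ.den_pos hx]
    exact Submodule.add_mem_sup (hQ u hu) ⟨_, rfl⟩
  · rw [Submodule.disjoint_def]
    intro y hyP hy
    obtain ⟨u, hu, v, hv, rfl⟩ := Submodule.mem_sup.mp hy
    have hv0 : v ∈ S ⊓ (P ⊔ Q) := ⟨hv, by
      have := sub_mem (Submodule.mem_sup_left (T := Q) hyP) (Submodule.mem_sup_right (S := P) hu)
      rwa [add_sub_cancel_left] at this⟩
    rw [hS, Submodule.mem_bot] at hv0
    subst hv0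
    rw [add_zero] at hyP ⊢
    exact Submodule.disjoint_def.mp hPQ u hyP hu

/-- A decomposition into standard isocrystals of a stable subspace. -/
def IsStdSum (F : N →ₛₗ[Isoc.frob p k a] N)
    (Q : Submodule (FractionRing (WittVector p k)) N) : Prop :=
  ∃ (t : ℕ) (d : Fin t → ℤ) (h : Fin t → ℕ)
    (ψ : ((i : Fin t) → Fin (h i) → FractionRing (WittVector p k)) →ₗ[FractionRing (WittVector p k)] N),
    (∀ i, 0 < h i ∧ Int.gcd (d i) (h i) = 1) ∧ Function.Injective ψ ∧ LinearMap.range ψ = Q ∧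
    ∀ y, F (ψ y) = ψ (fun i => stdIsoc (Isoc.frob p k a) (d i) (h i) (y i))

theorem isStdSum_top [IsAlgClosed k] (ha : a ≠ 0) (hF : IsIsoc F) : IsStdSum F ⊤ := by
  haveI := hF.finite
  obtain ⟨Q, hQ, hmax⟩ := wellFounded_gt.has_min {Q | IsStdSum F Q}
    ⟨⊥, 0, Fin.elim0, Fin.elim0, 0, fun i => i.elim0,
      fun x y _ => funext fun i => i.elim0, LinearMap.range_zero, fun y => by simp⟩
  suffices Q = ⊤ from this ▸ hQ
  by_contra hne
  obtain ⟨μ, x, hx, hxQ⟩ := exists_fixed_notMem ha hF hne
  obtain ⟨t, d, h, ψ, hdh, hinj, hrange, hcomm⟩ := hQ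
  have hQs : ∀ y ∈ Q, F y ∈ Q := by
    rw [← hrange]
    rintro _ ⟨y, rfl⟩
    exact ⟨_, (hcomm y).symm⟩
  have hS := range_stdMap_inf_eq_bot hx hQs hxQ
  have hx0 : x ≠ 0 := fun h0 => hxQ (h0 ▸ zero_mem _)
  let h' : Fin (t + 1) → ℕ := Fin.cons μ.den h
  let d' : Fin (t + 1) → ℤ := Fin.cons μ.num d
  let p0 : ((i : Fin (t + 1)) → Fin (h' i) → FractionRing (WittVector p k)) →ₗ[FractionRing (WittVector p k)]
      (Fin μ.den → FractionRing (WittVector p k)) := LinearMap.proj 0
  let ps : ((i : Fin (t + 1)) → Fin (h' i) → FractionRing (WittVector p k)) →ₗ[FractionRing (WittVector p k)]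
      ((i : Fin t) → Fin (h i) → FractionRing (WittVector p k)) :=
    LinearMap.pi fun i => LinearMap.proj (i.succ)
  let ψ' := (stdMap F x μ.den).comp p0 + ψ.comp ps
  have hψ' : ∀ y, ψ' y = stdMap F x μ.den (y 0) + ψ (fun i => y i.succ) := fun y => rfl
  have hmem : IsStdSum F (LinearMap.range ψ') := by
    refine ⟨t + 1, d', h', ψ', fun i => ?_, ?_, rfl, fun y => ?_⟩
    · refine Fin.cases ?_ (fun j => ?_) i
      · exact ⟨μ.den_pos, μ.reduced⟩
      · exact hdh j
    · rw [injective_iff_map_eq_zero]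
      intro y hy
      rw [hψ'] at hy
      have h1 : stdMap F x μ.den (y 0) ∈ LinearMap.range (stdMap F x μ.den) ⊓ Q := by
        refine ⟨⟨_, rfl⟩, ?_⟩
        rw [eq_neg_of_add_eq_zero_left hy, ← hrange]
        exact neg_mem ⟨_, rfl⟩
      rw [hS, Submodule.mem_bot] at h1
      rw [h1, zero_add] at hy
      funext i
      refine Fin.cases ?_ (fun j => ?_) i
      · exact stdMap_injective hF hx0 hx (h1.trans (map_zero _).symm)
      · exact congrFun (hinj (hy.trans (map_zero ψ).symm)) j
    · rw [hψ', hψ', map_add, hcomm, ← stdMap_comm x μ.den_pos hx]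
      rfl
  refine hmax _ hmem (lt_of_le_of_ne ?_ ?_)
  · rw [← hrange]
    rintro _ ⟨y, rfl⟩
    refine ⟨Fin.cons (0 : Fin μ.den → FractionRing (WittVector p k)) y, ?_⟩
    rw [hψ']
    show stdMap F x μ.den 0 + ψ y = ψ y
    rw [map_zero, zero_add]
  · intro he
    refine hxQ (he.symm ▸ ⟨Fin.cons (Pi.single (⟨0, μ.den_pos⟩ : Fin μ.den) 1) 0, ?_⟩)
    rw [hψ']
    show stdMap F x μ.den (Pi.single ⟨0, μ.den_pos⟩ 1) + ψ 0 = x
    rw [map_zero, add_zero, stdMap_single]
    rfl

theorem exists_std_decomposition [IsAlgClosed k] (ha : a ≠ 0) (hF : IsIsoc F) :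
    ∃ (t : ℕ) (d : Fin t → ℤ) (h : Fin t → ℕ)
      (e : N ≃ₗ[FractionRing (WittVector p k)] ((i : Fin t) → (Fin (h i) → FractionRing (WittVector p k)))),
      (∀ i, 0 < h i ∧ Int.gcd (d i) (h i) = 1) ∧
      (∀ (x : N) (i : Fin t), e (F x) i = stdIsoc (Isoc.frob p k a) (d i) (h i) (e x i)) ∧
      ∀ μ : ℚ, newtonMult F μ = ∑ i : Fin t, (if ((d i : ℚ) / (h i : ℚ)) = μ then h i else 0) := by
  classical
  haveI := hF.finite
  obtain ⟨t, d, h, ψ, hdh, hinj, hrange, hcomm⟩ := isStdSum_top ha hF
  let e := (LinearEquiv.ofBijective ψ ⟨hinj, LinearMap.range_eq_top.mp hrange⟩).symm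
  have hψe : ∀ x, ψ (e x) = x := fun x => (LinearEquiv.ofBijective ψ _).apply_symm_apply x
  refine ⟨t, d, h, e, hdh, fun x i => ?_, fun μ => ?_⟩
  · have h1 : ψ (e (F x)) = ψ (fun i => stdIsoc (Isoc.frob p k a) (d i) (h i) (e x i)) := by
      rw [hψe, ← hcomm, hψe]
    exact congrFun (hinj h1) i
  -- the images of the summands
  let sl : Fin t → ℚ := fun i => (d i : ℚ) / (h i : ℚ)
  let V := (i : Fin t) → Fin (h i) → FractionRing (WittVector p k)
  let ψi : ∀ i, (Fin (h i) → FractionRing (WittVector p k)) →ₗ[FractionRing (WittVector p k)] N :=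
    fun i => ψ.comp (LinearMap.single (FractionRing (WittVector p k))
      (fun i => Fin (h i) → FractionRing (WittVector p k)) i)
  have hψi : ∀ i y, ψi i (stdIsoc (Isoc.frob p k a) (d i) (h i) y) = F (ψi i y) := by
    intro i y
    simp only [ψi, LinearMap.comp_apply, hcomm]
    congr 1
    funext j
    rcases eq_or_ne j i with rfl | hji
    · simp
    · simp [LinearMap.single_apply, Pi.single_eq_of_ne hji]
  have hle : ∀ i y, ψi i y ∈ slopePart F (sl i) := fun i y =>
    le_slopePart (P := LinearMap.range (ψi i))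
      (by rintro _ ⟨z, rfl⟩; exact ⟨_, hψi i z⟩)
      (by
        rw [← Submodule.map_top]
        exact isoIn_map (ψi i) (hψi i) (isoIn_top_iff.mpr (isIsoclinic_stdIsoc _ (hdh i).1)))
      ⟨y, rfl⟩
  let ext : ((i : {i // sl i = μ}) → Fin (h i.1) → FractionRing (WittVector p k)) →ₗ[FractionRing (WittVector p k)] V :=
    ∑ i : {i // sl i = μ},
      (LinearMap.single (FractionRing (WittVector p k))
        (fun i => Fin (h i) → FractionRing (WittVector p k)) i.1).comp (LinearMap.proj i)
  have hext : ∀ f (i : {i // sl i = μ}), ext f i.1 = f i := by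
    intro f i
    simp only [ext, LinearMap.sum_apply, Finset.sum_apply, LinearMap.comp_apply,
      LinearMap.proj_apply, LinearMap.single_apply]
    rw [Finset.sum_eq_single i (fun j _ hj => Pi.single_eq_of_ne (fun hc => hj (Subtype.ext hc.symm)) _)
      (fun hc => absurd (Finset.mem_univ _) hc), Pi.single_eq_same]
  have hinj' : Function.Injective (ψ.comp ext) := hinj.comp fun f g hfg =>
    funext fun i => by rw [← hext f i, ← hext g i, hfg]
  have hpart : slopePart F μ = LinearMap.range (ψ.comp ext) := by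
    refine le_antisymm (fun y hy => ?_) ?_
    · let f : (i : {i // sl i = μ}) → Fin (h i.1) → FractionRing (WittVector p k) := fun i => e y i.1
      refine ⟨f, ?_⟩
      have hsplit : e y = ext f + ∑ i ∈ Finset.univ.filter (fun i => sl i ≠ μ),
          Pi.single i (e y i) := by
        have h1 : ext f = ∑ i ∈ Finset.univ.filter (fun i => sl i = μ), Pi.single i (e y i) := by
          rw [Finset.sum_subtype (Finset.univ.filter fun i => sl i = μ) (p := fun i => sl i = μ) (F := Subtype.fintype fun i => sl i = μ)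
            (fun i => by simp)]
          simp [ext, f]
        rw [h1, Finset.sum_filter_add_sum_filter_not, Finset.univ_sum_single]
      have hrest : ψ (∑ i ∈ Finset.univ.filter (fun i => sl i ≠ μ), Pi.single i (e y i)) ∈
          ⨆ (ν : ℚ) (_ : ν ≠ μ), slopePart F ν := by
        rw [map_sum]
        refine Submodule.sum_mem _ fun i hi => ?_
        exact le_iSup₂ (f := fun (ν : ℚ) (_ : ν ≠ μ) => slopePart F ν) (sl i)
          (Finset.mem_filter.mp hi).2 (hle i _)
      have hfy : (ψ.comp ext) f ∈ slopePart F μ := by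
        simp only [LinearMap.comp_apply, ext, LinearMap.sum_apply, map_sum]
        refine Submodule.sum_mem _ fun i _ => ?_
        have := hle i.1 (f i)
        rw [i.2] at this
        exact this
      have hy' := congrArg ψ hsplit
      rw [hψe, map_add] at hy'
      have h0 := Submodule.disjoint_def.mp ((iSupIndep_slopePart hF) μ) _
        (sub_mem hy hfy) (by
          rw [LinearMap.comp_apply]
          nth_rw 1 [hy']
          rw [add_sub_cancel_left]
          exact hrest)
      exact (sub_eq_zero.mp h0).symm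
    · rintro _ ⟨f, rfl⟩
      simp only [LinearMap.comp_apply, ext, LinearMap.sum_apply, map_sum]
      refine Submodule.sum_mem _ fun i _ => ?_
      have := hle i.1 (f i)
      rw [i.2] at this
      exact this
  rw [newtonMult, hpart, LinearMap.finrank_range_of_inj hinj', Module.finrank_pi_fintype]
  simp only [Module.finrank_fin_fun]
  rw [← Finset.sum_filter, Finset.sum_subtype (Finset.univ.filter fun i => sl i = μ)
    (p := fun i => sl i = μ) (F := Subtype.fintype fun i => sl i = μ) (fun i => by simp) (f := h)]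

end Groth.Agent.IsocLib

end
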