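import Groth.Agent.IsocLib.Decomp
import Groth.Agent.IsocLib.FiniteField
import Mathlib.Algebra.DirectSum.LinearMap
import Mathlib.LinearAlgebra.Charpoly.ToMatrix
import Mathlib.LinearAlgebra.Matrix.Charpoly.Coeff
import Mathlib.LinearAlgebra.Matrix.ToLinearEquiv
import Mathlib.FieldTheory.IsAlgClosed.Basic
import Mathlib.RingTheory.IntegralClosure.IntegrallyClosed
import Mathlib.RingTheory.Int.Basic
import Mathlib.RingTheory.Polynomial.RationalRoot

/-!
# Newton slopes and the roots of the characteristic polynomial of `F^m`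
-/

set_option autoImplicit false
set_option linter.unusedSectionVars false

noncomputable section

open scoped Pointwise Classical
open Isoc

universe u v w

namespace Groth.Agent.IsocLib

variable {p : ℕ} [Fact p.Prime] {k : Type u} [Field k] [CharP k p] [PerfectRing k p]
variable {N : Type v} [AddCommGroup N] [Module (WittVector p k) N]
  [Module (FractionRing (WittVector p k)) N]
  [IsScalarTower (WittVector p k) (FractionRing (WittVector p k)) N]
variable {τ : FractionRing (WittVector p k) →+* FractionRing (WittVector p k)} [Good τ]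
variable {F : N →ₛₗ[τ] N}
variable {Ω : Type w} [Field Ω] [Algebra (WittVector p k) Ω]
  [Algebra (FractionRing (WittVector p k)) Ω]
  [IsScalarTower (WittVector p k) (FractionRing (WittVector p k)) Ω]

/-- `α` has order `μ m` : `α^den p^{-num m}` is a unit of the integral closure. -/
def HasSlope (m : ℕ) (μ : ℚ) (α : Ω) : Prop :=
  IsIntegral (WittVector p k) (α ^ μ.den * (algebraMap (FractionRing (WittVector p k)) Ω
      (p : FractionRing (WittVector p k))) ^ (-(μ.num * (m : ℤ)))) ∧
    IsIntegral (WittVector p k) (α ^ μ.den * (algebraMap (FractionRing (WittVector p k)) Ω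
      (p : FractionRing (WittVector p k))) ^ (-(μ.num * (m : ℤ))))⁻¹

theorem pΩ_ne_zero : algebraMap (FractionRing (WittVector p k)) Ω
    (p : FractionRing (WittVector p k)) ≠ 0 := by
  rw [ne_eq, map_eq_zero]; exact p_ne_zero

theorem isIntegral_eigen {n : Type*} [Fintype n] [DecidableEq n]
    (C : Matrix n n (WittVector p k)) {β : Ω} {v : n → Ω} (hv : v ≠ 0)
    (h : (C.map (algebraMap (WittVector p k) Ω)).mulVec v = β • v) :
    IsIntegral (WittVector p k) β := by
  refine ⟨C.charpoly, C.charpoly_monic, ?_⟩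
  rw [← Polynomial.eval_map, ← Matrix.charpoly_map, Matrix.eval_charpoly,
    ← Matrix.exists_mulVec_eq_zero_iff]
  exact ⟨v, hv, by rw [Matrix.sub_mulVec, h]; simp⟩

theorem eq_zero_of_isIntegral_zpow {z : ℤ}
    (h : IsIntegral (WittVector p k)
      ((algebraMap (FractionRing (WittVector p k)) Ω (p : FractionRing (WittVector p k))) ^ z)) :
    0 ≤ z := by
  rw [← map_zpow₀, isIntegral_algebraMap_iff
    (algebraMap (FractionRing (WittVector p k)) Ω).injective] at h
  obtain ⟨w, hw⟩ := IsIntegrallyClosed.isIntegral_iff.mp h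
  exact isOrdP_nonneg (w := w) (hw ▸ isOrdP_pi z)

theorem hasSlope_unique {m : ℕ} (hm : 0 < m) {α : Ω} (hα : α ≠ 0) {μ ν : ℚ}
    (hμ : HasSlope (p := p) (k := k) m μ α) (hν : HasSlope (p := p) (k := k) m ν α) : μ = ν := by
  suffices H : ∀ {μ ν : ℚ}, HasSlope (p := p) (k := k) m μ α → HasSlope (p := p) (k := k) m ν α →
      μ.num * ν.den ≤ ν.num * μ.den from
    Rat.eq_iff_mul_eq_mul.mpr (le_antisymm (H hμ hν) (H hν hμ))
  intro μ ν hμ hν
  set P := algebraMap (FractionRing (WittVector p k)) Ω (p : FractionRing (WittVector p k))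
  have h := (hμ.2.pow ν.den).mul (hν.1.pow μ.den)
  have e : ((α ^ μ.den * P ^ (-(μ.num * (m : ℤ))))⁻¹) ^ ν.den *
      (α ^ ν.den * P ^ (-(ν.num * (m : ℤ)))) ^ μ.den =
      P ^ ((μ.num * ν.den - ν.num * μ.den) * (m : ℤ)) := by
    rw [inv_pow, mul_pow, mul_pow, ← pow_mul, ← pow_mul, mul_comm ν.den μ.den, mul_inv,
      ← zpow_natCast (P ^ _), ← zpow_natCast (P ^ _), ← zpow_mul, ← zpow_mul, ← zpow_neg,
      mul_mul_mul_comm, inv_mul_cancel₀ (pow_ne_zero _ hα), one_mul, ← zpow_add₀ pΩ_ne_zero]
    congr 1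
    ring
  have h' := (hν.2.pow μ.den).mul (hμ.1.pow ν.den)
  rw [e] at h
  have e' : ((α ^ ν.den * P ^ (-(ν.num * (m : ℤ))))⁻¹) ^ μ.den *
      (α ^ μ.den * P ^ (-(μ.num * (m : ℤ)))) ^ ν.den =
      P ^ ((ν.num * μ.den - μ.num * ν.den) * (m : ℤ)) := by
    rw [inv_pow, mul_pow, mul_pow, ← pow_mul, ← pow_mul, mul_comm μ.den ν.den, mul_inv,
      ← zpow_natCast (P ^ _), ← zpow_natCast (P ^ _), ← zpow_mul, ← zpow_mul, ← zpow_neg,
      mul_mul_mul_comm, inv_mul_cancel₀ (pow_ne_zero _ hα), one_mul, ← zpow_add₀ pΩ_ne_zero]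
    congr 1
    ring
  rw [e'] at h'
  have h2 := eq_zero_of_isIntegral_zpow h'
  have hm' : (0 : ℤ) < m := by exact_mod_cast hm
  have := (mul_nonneg_iff_of_pos_right hm').mp h2
  omega

/-- All roots on an isoclinic isocrystal have the same slope. -/
theorem root_hasSlope (hF : IsIsoc F) {μ : ℚ} (hμ : IsIsoclinic F μ) {m : ℕ}
    (π : N →ₗ[FractionRing (WittVector p k)] N) (hπ : ∀ x, π x = (⇑F)^[m] x)
    [Module.Finite (FractionRing (WittVector p k)) N] {α : Ω}
    (hα : α ∈ (π.charpoly.map (algebraMap (FractionRing (WittVector p k)) Ω)).roots) :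
    α ≠ 0 ∧ HasSlope (p := p) (k := k) m μ α := by
  obtain ⟨M, hM, r, s, hs, hrs, hFM⟩ := hμ
  set b := latBasis hM with hb
  have hFM' := latImg_mul_eq hFM m
  obtain ⟨C, hC⟩ := exists_intMatrix hM hFM'.le
  obtain ⟨d, hd⟩ := exists_isOrdP_det hF b
  have hC' : IsUnit C.det := by
    have h1 := mul_eq_det b hd hM hFM'
    have h2 := isOrdP_intMatrix_det b hd hM hC
    rw [show ((s * m : ℕ) : ℤ) * d - r * m * (Module.finrank (WittVector p k) M) = 0 by omega] at h2
    obtain ⟨u, hu⟩ := h2
    exact ⟨u, IsFractionRing.injective _ (FractionRing (WittVector p k)) (by rw [hu]; simp)⟩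
  set A := LinearMap.toMatrix b b π with hA
  set φ := algebraMap (FractionRing (WittVector p k)) Ω
  have hroot : (A.map φ).charpoly.IsRoot α := by
    rw [Matrix.charpoly_map, hA, LinearMap.charpoly_toMatrix]
    exact (Polynomial.mem_roots'.mp hα).2
  rw [Polynomial.IsRoot.def, Matrix.eval_charpoly, ← Matrix.exists_mulVec_eq_zero_iff] at hroot
  obtain ⟨v, hv, hv0⟩ := hroot
  have hAv : (A.map φ).mulVec v = α • v := by
    rw [Matrix.sub_mulVec, sub_eq_zero] at hv0
    rw [← hv0]
    simp
  have hpow : ∀ t : ℕ, ((A.map φ) ^ t).mulVec v = α ^ t • v := by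
    intro t
    induction t with
    | zero => simp
    | succ t ih =>
      rw [pow_succ', ← Matrix.mulVec_mulVec, ih, Matrix.mulVec_smul, hAv, smul_smul, ← pow_succ]
  have hAs : A ^ s = matF b (Isoc.iter F (s * m)) := by
    rw [hA, LinearMap.toMatrix_pow]
    ext i j
    rw [LinearMap.toMatrix_apply]
    simp only [matF, Matrix.of_apply, Isoc.iter_apply]
    congr 2
    rw [Module.End.pow_apply, show (⇑π : N → N) = (⇑F)^[m] from funext hπ, ← Function.iterate_mul,
      mul_comm]
  set P := φ (p : FractionRing (WittVector p k))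
  set β := α ^ s * P ^ (-(r * (m : ℤ))) with hβ
  set D := C.map (algebraMap (WittVector p k) Ω)
  have hD : D = P ^ (-(r * (m : ℤ))) • (A.map φ) ^ s := by
    have h1 : (A.map φ) ^ s = (A ^ s).map φ := (map_pow (RingHom.mapMatrix φ) A s).symm
    rw [h1, hAs, hC]
    ext i j
    simp only [Matrix.smul_apply, Matrix.map_apply, smul_eq_mul, map_mul, D]
    rw [map_zpow₀, ← mul_assoc, ← zpow_add₀ pΩ_ne_zero, neg_add_cancel, zpow_zero, one_mul,
      ← IsScalarTower.algebraMap_apply]
  have hDv : D.mulVec v = β • v := by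
    rw [hD, Matrix.smul_mulVec, hpow, smul_smul, mul_comm]
  have hDinv : (C⁻¹).map (algebraMap (WittVector p k) Ω) * D = 1 := by
    rw [← Matrix.map_mul, Matrix.nonsing_inv_mul C hC']
    simp
  have hEv : β • ((C⁻¹).map (algebraMap (WittVector p k) Ω)).mulVec v = v := by
    rw [← Matrix.mulVec_smul, ← hDv, Matrix.mulVec_mulVec, hDinv, Matrix.one_mulVec]
  have hβ0 : β ≠ 0 := fun h0 => hv (by rw [← hEv, h0, zero_smul])
  have hi := isIntegral_eigen C hv hDv
  have hi' : IsIntegral (WittVector p k) β⁻¹ := isIntegral_eigen C⁻¹ hv (by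
    conv_rhs => rw [← hEv]
    rw [inv_smul_smul₀ hβ0])
  have hα0 : α ≠ 0 := fun h0 => hβ0 (by rw [hβ, h0, zero_pow hs.ne', zero_mul])
  refine ⟨hα0, ?_⟩
  have hnum : r * μ.den = μ.num * s := by
    rw [← μ.num_div_den, div_eq_div_iff (by exact_mod_cast hs.ne')
      (by exact_mod_cast μ.den_pos.ne')] at hrs
    exact_mod_cast hrs
  have key : (α ^ μ.den * P ^ (-(μ.num * (m : ℤ)))) ^ s = β ^ μ.den := by
    rw [hβ, mul_pow, mul_pow, ← pow_mul, ← pow_mul, mul_comm s, ← zpow_natCast (P ^ _),
      ← zpow_natCast (P ^ _), ← zpow_mul, ← zpow_mul]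
    congr 2
    linear_combination (m : ℤ) * hnum
  exact ⟨IsIntegral.of_pow hs (key ▸ hi.pow _),
    IsIntegral.of_pow hs (by rw [inv_pow, key, ← inv_pow]; exact hi'.pow _)⟩

theorem newtonMult_eq_countP [IsAlgClosed Ω] [Fintype k] {m : ℕ} (hk : Fintype.card k = p ^ m)
    [Module.Finite (FractionRing (WittVector p k)) N] (hF : IsIsoc F)
    (π : N →ₗ[FractionRing (WittVector p k)] N) (hπ : ∀ x, π x = (⇑F)^[m] x) (μ : ℚ) :
    newtonMult F μ = Multiset.countP (HasSlope (p := p) (k := k) (Ω := Ω) m μ)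
      (π.charpoly.map (algebraMap (FractionRing (WittVector p k)) Ω)).roots := by
  have hm : 0 < m := Nat.pos_of_ne_zero fun h0 => by
    have := Fintype.one_lt_card (α := k)
    rw [hk, h0, pow_zero] at this
    omega
  set S := (finite_slopes hF).toFinset
  have hst : ∀ μ, ∀ x ∈ slopePart F μ, F x ∈ slopePart F μ := fun μ => (slopePart_spec F μ).1
  have hπst : ∀ i : S, Set.MapsTo π (slopePart F i.1) (slopePart F i.1) := fun i x hx => by
    rw [hπ]; exact iterate_mem (hst _) m hx
  let πi : ∀ i : S, slopePart F i.1 →ₗ[FractionRing (WittVector p k)] slopePart F i.1 :=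
    fun i => π.restrict (hπst i)
  let bi : ∀ i : S, Module.Basis (Fin (newtonMult F i.1)) (FractionRing (WittVector p k))
      (slopePart F i.1) := fun i => Module.finBasis _ _
  have hprod : π.charpoly = ∏ i : S, (πi i).charpoly := by
    rw [← LinearMap.charpoly_toMatrix π ((isInternal_slopes hF).collectedBasis bi),
      LinearMap.toMatrix_directSum_collectedBasis_eq_blockDiagonal' (isInternal_slopes hF)
        (isInternal_slopes hF) bi bi hπst, charpoly_blockDiagonal']
    exact Finset.prod_congr rfl fun i _ => LinearMap.charpoly_toMatrix _ _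
  have hne : (∏ i : S, (πi i).charpoly.map (algebraMap (FractionRing (WittVector p k)) Ω)) ≠ 0 :=
    Finset.prod_ne_zero_iff.mpr fun i _ =>
      ((LinearMap.charpoly_monic _).map _).ne_zero
  have hcount : ∀ i : S, Multiset.countP (HasSlope (p := p) (k := k) (Ω := Ω) m μ)
      ((πi i).charpoly.map (algebraMap (FractionRing (WittVector p k)) Ω)).roots =
      if i.1 = μ then newtonMult F i.1 else 0 := by
    intro i
    have hroots : ∀ α ∈ ((πi i).charpoly.map
        (algebraMap (FractionRing (WittVector p k)) Ω)).roots,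
        α ≠ 0 ∧ HasSlope (p := p) (k := k) m i.1 α := fun α hα => by
      refine root_hasSlope (F := F.restrict (hst i.1)) (isIsoc_restrict hF (hst i.1))
        ((isIsoclinic_restrict_iff (hst i.1)).mpr (slopePart_spec F i.1).2) (πi i) (fun x => ?_) hα
      apply Subtype.ext
      show π x = _
      rw [hπ]
      exact ((Function.Semiconj.iterate_right (f := Subtype.val) (fun y => rfl) m).eq x).symm
    split_ifs with h
    · rw [Multiset.countP_eq_card.mpr fun α hα => h ▸ (hroots α hα).2,
        IsAlgClosed.card_roots_eq_natDegree, Polynomial.natDegree_map,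
        LinearMap.charpoly_natDegree]
      rfl
    · exact Multiset.countP_eq_zero.mpr fun α hα hc =>
        h (hasSlope_unique hm (hroots α hα).1 (hroots α hα).2 hc)
  have hsum : ∀ T : Finset S, Multiset.countP (HasSlope (p := p) (k := k) (Ω := Ω) m μ)
      (∏ i ∈ T, (πi i).charpoly.map (algebraMap (FractionRing (WittVector p k)) Ω)).roots =
      ∑ i ∈ T, if i.1 = μ then newtonMult F i.1 else 0 := by
    intro T
    induction T using Finset.induction_on with
    | empty => simp
    | insert a T ha ih =>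
      rw [Finset.prod_insert ha, Finset.sum_insert ha, Polynomial.roots_mul, Multiset.countP_add,
        hcount, ih]
      exact mul_ne_zero ((LinearMap.charpoly_monic _).map _).ne_zero
        (Finset.prod_ne_zero_iff.mpr fun i _ => ((LinearMap.charpoly_monic _).map _).ne_zero)
  rw [hprod, Polynomial.map_prod, hsum Finset.univ]
  by_cases h : μ ∈ S
  · rw [Finset.sum_eq_single (⟨μ, h⟩ : S) (fun i _ hi => if_neg fun hc => hi (Subtype.ext hc))
      (fun hc => absurd (Finset.mem_univ _) hc), if_pos rfl]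
  · rw [Finset.sum_eq_zero fun i _ => if_neg fun hc => h (by rw [← hc]; exact i.2)]
    have : slopePart F μ = ⊥ := by simpa [S] using h
    simp [newtonMult, this]

end Groth.Agent.IsocLib

end
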